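import Cfsg.Agent.H441.GS.Start
import Cfsg.Agent.H441.GS.OppGen
import Cfsg.Agent.KFacts.TwESix.NodeCoord

/-!
# The long start of a group with a root group datum whose long root groups are coordinatised (S4327), helper937

`r` a dominant root in the orbit of the simple root `α_i`; the root group of `α_i` is coordinatised by a homomorphism
`Φ : SL₂(F) → Y`.

* `char_orb` : the scalars on `X r` are invariant under the stabiliser of `r`;
* `exists_chart` : a homomorphism `ψ : SL₂(F) → Y`, `ψ (up t) ∈ X (-r)`, `ψ (lo t) ∈ X r`;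
* `semi_orb` : the semilinear map `ψ (up t) ↦ ψ (lo (c * τ t))`, `τ ^ m = 1`;
* `start_orb` : `q ≥ 4`: five conjugates reach `X r ⊔ X (-r)`.
-/

set_option autoImplicit false
set_option linter.unusedSectionVars false

namespace Cfsg.Agent.H937.Gs.TwS

open CoxeterSystem Cfsg.Agent.ChevalleyStructure.CoxeterGeom Cfsg.Agent.Tits.Roots Cfsg.Agent.Tits.Core
  Cfsg.Agent.Tits.Exchange Cfsg.Agent.Nodes.Reps Cfsg.Agent.Nodes.BNOf Cfsg.Agent.Nodes.StabComb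
  Cfsg.Agent.Nodes.Bruhat Cfsg.Agent.Nodes.OppDec Cfsg.Agent.Nodes.LeviDec Cfsg.Agent.Nodes.NormalForm
  Cfsg.Agent.Nodes.Coroot Cfsg.Agent.Nodes.PosPair
open Cfsg.Agent.KFacts.RgdOpp Cfsg.Agent.KFacts.RgdAut Cfsg.Agent.KFacts.RgdDiag Cfsg.Agent.KFacts.RgdRigid
  Cfsg.Agent.KFacts.RgdField Cfsg.Agent.H441.GS
open Cfsg.Agent.H915.Gs (Reach)
open Cfsg.Agent.LieClassical.SLTwoUnipotent (u l coe_u coe_l)
open Cfsg.Agent.ChevalleyStructure.SL2Hom (up lo)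
open Cfsg.Agent.Nodes.RGDFoldSL (wS hS lo_eq coe_wS)

/-! ### coordinates -/

section Coord

variable {Y : Type*} [Group Y] {F : Type*} [Field F] {T P : Subgroup Y} {x : F → Y} {χ : Y → F}

/-- transport of coordinates -/
theorem coord_conj (C : Coord T P x χ) {g : Y} (hg : g ∈ Subgroup.normalizer (T : Set Y)) {P' : Subgroup Y}
    (hP : ∀ y, y ∈ P' ↔ g⁻¹ * y * g ∈ P) :
    Coord T P' (fun a => g * x a * g⁻¹) (fun t => χ (g⁻¹ * t * g)) where
  mem y := by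
    rw [hP, C.mem]
    constructor
    · rintro ⟨a, ha⟩
      exact ⟨a, by rw [ha]; group⟩
    · rintro ⟨a, ha⟩
      exact ⟨a, by rw [← ha]; group⟩
  inj a b hab := C.inj (mul_left_cancel (mul_right_cancel hab))
  add a b := by rw [C.add]; group
  act t ht a := by
    have ht' : g⁻¹ * t * g ∈ T := by
      have h1 := (Subgroup.mem_normalizer_iff.1 (inv_mem hg) t).1 ht
      rwa [inv_inv] at h1
    rw [← C.act _ ht']
    group
  span := by
    have e : (fun t => χ (g⁻¹ * t * g)) '' (T : Set Y) = χ '' (T : Set Y) := by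
      ext a
      constructor
      · rintro ⟨t, ht, rfl⟩
        refine ⟨g⁻¹ * t * g, ?_, rfl⟩
        have h1 := (Subgroup.mem_normalizer_iff.1 (inv_mem hg) t).1 ht
        rwa [inv_inv] at h1
      · rintro ⟨t, ht, rfl⟩
        refine ⟨g * t * g⁻¹, (Subgroup.mem_normalizer_iff.1 hg t).1 ht, ?_⟩
        change χ (g⁻¹ * (g * t * g⁻¹) * g) = χ t
        congr 1
        group
    rw [e]
    exact C.span

/-- change of sign -/
theorem coord_neg (C : Coord T P x χ) : Coord T P (fun a => x (-a)) χ where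
  mem y := by
    rw [C.mem]
    exact ⟨fun ⟨a, ha⟩ => ⟨-a, by rw [neg_neg, ha]⟩, fun ⟨a, ha⟩ => ⟨-a, ha⟩⟩
  inj a b hab := neg_injective (C.inj hab)
  add a b := by rw [neg_add, C.add]
  act t ht a := by rw [C.act t ht, mul_neg]
  span := C.span

/-- an element centralising `P` -/
theorem chi_of_comm (C : Coord T P x χ) {c t : Y} (hc : ∀ z ∈ P, c * z = z * c) (ht : t ∈ T)
    (ht' : c * t * c⁻¹ ∈ T) : χ (c * t * c⁻¹) = χ t := by
  have h1 := C.act _ ht' 1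
  have hcx : ∀ a, c * x a = x a * c := fun a => hc _ ((C.mem _).2 ⟨a, rfl⟩)
  have h2 : c * t * c⁻¹ * x 1 * (c * t * c⁻¹)⁻¹ = x (χ t * 1) := by
    calc c * t * c⁻¹ * x 1 * (c * t * c⁻¹)⁻¹ = c * t * (c⁻¹ * (x 1 * c)) * t⁻¹ * c⁻¹ := by group
      _ = c * (t * x 1 * t⁻¹) * c⁻¹ := by rw [← hcx]; group
      _ = x (χ t * 1) := by rw [C.act t ht, hcx]; group
  rw [h2] at h1
  have h3 := C.inj h1
  rw [mul_one, mul_one] at h3
  exact h3.symm

end Coord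

section Rgd

variable {I W Y : Type*} [Fintype I] [DecidableEq I] [Group W] [Group Y] {M : CoxeterMatrix I}
  {cs : CoxeterSystem M W} {A : I → I → ℤ} {h : IsCartan M A} {p : ℕ} {T : Subgroup Y} {n : I → Y}
  {X : (I → ℤ) → Subgroup Y} {F : Type*} [Field F]

theorem u_eq (t : F) : (u t : Matrix.SpecialLinearGroup (Fin 2) F) = up t := by
  apply Subtype.ext
  rw [coe_u]
  rfl

theorem l_eq (t : F) : (l t : Matrix.SpecialLinearGroup (Fin 2) F) = lo t := by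
  apply Subtype.ext
  rw [coe_l]
  rfl

/-- the chart of the long root groups -/
structure Chart (T : Subgroup Y) (X : (I → ℤ) → Subgroup Y) (r : I → ℤ)
    (ψ : Matrix.SpecialLinearGroup (Fin 2) F →* Y) (χp χm : Y → F) : Prop where
  neg : Coord T (X (-r)) (fun a => ψ (up a)) χm
  pos : Coord T (X r) (fun a => ψ (lo a)) χp

theorem Chart.le {r : I → ℤ} {ψ : Matrix.SpecialLinearGroup (Fin 2) F →* Y} {χp χm : Y → F}
    (C : Chart T X r ψ χp χm) : X r ⊔ X (-r) ≤ ψ.range := by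
  refine sup_le ?_ ?_
  · intro z hz
    obtain ⟨t, rfl⟩ := (C.pos.mem z).1 hz
    exact ⟨lo t, rfl⟩
  · intro z hz
    obtain ⟨t, rfl⟩ := (C.neg.mem z).1 hz
    exact ⟨up t, rfl⟩

theorem hat_one (hM : ∀ i j, M ((1 : Equiv.Perm I) i) ((1 : Equiv.Perm I) j) = M i j) (w : W) :
    hat cs (1 : Equiv.Perm I) hM w = w := by
  have h1 : hat cs (1 : Equiv.Perm I) hM = MonoidHom.id W := cs.ext_simple fun i => by
    rw [hat_simple]
    rfl
  rw [h1]
  rfl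

variable (R : RGD cs h p T n X) [Finite W]

include R

/-- the node elements orthogonal to `r` -/
theorem n_comm {r : I → ℤ} (hr : IsRoot cs h r)
    (hc : ∀ x, IsRoot cs h x → 0 ≤ cpr cs h x r → ∀ u ∈ X x, ∀ z ∈ X r, u * z = z * u) {i : I}
    (hi : i ∈ orth cs h r) : ∃ t ∈ T, ∃ c : Y, n i = t * c ∧ ∀ z ∈ X r, c * z = z * c := by
  have h0 : cpr cs h (sr i) r = 0 := by
    have h1 : cpr cs h (rep cs h (cs.simple i) (sr i)) (rep cs h (cs.simple i) r) = cpr cs h (sr i) r :=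
      cpr_rep cs h _ _ hr
    have h2 : rep cs h (cs.simple i) r = r := hi
    rw [h2, rep_simple_sr, cpr_neg cs h _ hr] at h1
    omega
  obtain ⟨v, hv, hv1⟩ := exists_ne_one R i
  have h1 : n i * v * (n i)⁻¹ ∈ X (-sr i) := by
    have := R.conj_mem (rp_simple cs R.nsys i) (isRoot_sr cs h i) hv
    rwa [rep_simple_sr] at this
  have h2 : n i * v * (n i)⁻¹ ≠ 1 := fun h3 => hv1 (mul_eq_left.1 (mul_inv_eq_one.1 h3))
  obtain ⟨w, hw⟩ : ∃ w, w = n i * v * (n i)⁻¹ := ⟨_, rfl⟩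
  rw [← hw] at h1 h2
  obtain ⟨a, ha, t, ht, b, hb, e⟩ := R.rk1 i _ h1 h2
  have hm : ∀ y ∈ X (sr i), ∀ z ∈ X r, y * z = z * y :=
    fun y hy z hz => hc _ (isRoot_sr cs h i) h0.ge y hy z hz
  have hm' : ∀ y ∈ X (-sr i), ∀ z ∈ X r, y * z = z * y :=
    fun y hy z hz => hc _ (isRoot_sr cs h i).neg (by rw [cpr_neg cs h _ hr, h0]; simp) y hy z hz
  refine ⟨t⁻¹, inv_mem ht, a⁻¹ * w * b⁻¹, ?_, ?_⟩
  · rw [e]; group
  · intro z hz
    calc a⁻¹ * w * b⁻¹ * z = a⁻¹ * (w * (b⁻¹ * z)) := by group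
      _ = a⁻¹ * ((w * z) * b⁻¹) := by rw [hm _ (inv_mem hb) z hz]; group
      _ = (a⁻¹ * z) * w * b⁻¹ := by rw [hm' _ h1 z hz]; group
      _ = z * (a⁻¹ * w * b⁻¹) := by rw [hm _ (inv_mem ha) z hz]; group

/-- **The scalars on `X r` are invariant under the stabiliser of `r`.** -/
theorem char_orb {r : I → ℤ} (hr : IsRoot cs h r) (hdom : Dom A r)
    (hc : ∀ x, IsRoot cs h x → 0 ≤ cpr cs h x r → ∀ u ∈ X x, ∀ z ∈ X r, u * z = z * u)
    {x : F → Y} {χ : Y → F} (C : Coord T (X r) x χ) {w : W} (hw : rep cs h w r = r) {k t : Y}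
    (hk : Rp cs R.nsys w k) (ht : t ∈ T) : χ (k * t * k⁻¹) = χ t := by
  have h1 := mem_WJ_of_rep (cs := cs) (h := h) hdom hw
  clear hw
  unfold WJ at h1
  induction h1 using Subgroup.closure_induction generalizing k t with
  | mem w hw =>
    obtain ⟨i, hi, rfl⟩ := hw
    obtain ⟨s, hs, c, e, hcc⟩ := n_comm R hr hc hi
    have h2 : Rp cs R.nsys 1 (k * (n i)⁻¹) := by
      have := hk.mul (rp_simple cs R.nsys i).inv
      rwa [mul_inv_cancel] at this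
    have h3 : k * (n i)⁻¹ ∈ T := h2.mem_of_one
    obtain ⟨s', hs', e'⟩ : ∃ s' ∈ T, k = s' * c := ⟨k * (n i)⁻¹ * s, mul_mem h3 hs, by
      rw [e]; group⟩
    have h4 : k * t * k⁻¹ ∈ T := (Subgroup.mem_normalizer_iff.1 hk.mem_normalizer t).1 ht
    have h5 : c * t * c⁻¹ ∈ T := by
      have h6 := mul_mem (mul_mem (inv_mem hs') h4) hs'
      have h7 : s'⁻¹ * (k * t * k⁻¹) * s' = c * t * c⁻¹ := by rw [e']; group
      rwa [h7] at h6
    have h8 : k * t * k⁻¹ = s' * (c * t * c⁻¹) * s'⁻¹ := by rw [e']; group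
    rw [h8, C.chi_conj hs' h5, chi_of_comm C hcc ht h5]
  | one => exact C.chi_conj hk.mem_of_one ht
  | mul v w _ _ ih1 ih2 =>
    obtain ⟨g, hg⟩ := exists_rp cs R.nsys w
    have h2 : Rp cs R.nsys v (k * g⁻¹) := by
      have := hk.mul hg.inv
      rwa [mul_inv_cancel_right] at this
    have h3 : g * t * g⁻¹ ∈ T := (Subgroup.mem_normalizer_iff.1 hg.mem_normalizer t).1 ht
    have h4 : k * t * k⁻¹ = k * g⁻¹ * (g * t * g⁻¹) * (k * g⁻¹)⁻¹ := by group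
    rw [h4, ih1 h2 h3, ih2 hg ht]
  | inv w _ ih =>
    have h2 : Rp cs R.nsys w k⁻¹ := by
      have := hk.inv
      rwa [inv_inv] at this
    have h3 : k * t * k⁻¹ ∈ T := (Subgroup.mem_normalizer_iff.1 hk.mem_normalizer t).1 ht
    have h4 := ih h2 h3
    have h5 : k⁻¹ * (k * t * k⁻¹) * k⁻¹⁻¹ = t := by group
    rw [h5] at h4
    exact h4.symm

/-- **The chart at `r`**, conjugate to the chart of the simple root. -/
theorem exists_chart' {i : I} {Φ : Matrix.SpecialLinearGroup (Fin 2) F →* Y} {χ : Y → F}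
    (Ci : Coord T (X (sr i)) (fun a => Φ (up a)) χ) (hw : Φ (wS 1) = n i) {r : I → ℤ} (hr : IsRoot cs h r)
    (hdom : Dom A r)
    (hc : ∀ x, IsRoot cs h x → 0 ≤ cpr cs h x r → ∀ u ∈ X x, ∀ z ∈ X r, u * z = z * u)
    (ho : ∃ w, rep cs h w (sr i) = r) :
    ∃ (ψ : Matrix.SpecialLinearGroup (Fin 2) F →* Y) (χp χm : Y → F), Chart T X r ψ χp χm ∧
      (∀ (w : W) (k t : Y), rep cs h w r = -r → Rp cs R.nsys w k → t ∈ T → χp (k * t * k⁻¹) = χm t) ∧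
      ∃ g : Y, ∀ a, ψ a = g * Φ a * g⁻¹ := by
  obtain ⟨w₀, hw₀⟩ := ho
  obtain ⟨w, hwd⟩ : ∃ w, w = w₀ * cs.simple i := ⟨_, rfl⟩
  have hwr : rep cs h w (sr i) = -r := by rw [hwd, rep_mul_apply, rep_simple_sr, map_neg, hw₀]
  obtain ⟨g, hg⟩ := exists_rp cs R.nsys w
  have hni := rp_simple cs R.nsys i
  have hgn : Rp cs R.nsys (w * cs.simple i) (g * n i) := hg.mul hni
  have hgr : rep cs h (w * cs.simple i) (sr i) = r := by
    rw [rep_mul_apply, rep_simple_sr, map_neg, hwr, neg_neg]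
  have Cm : Coord T (X (-r)) (fun a => g * Φ (up a) * g⁻¹) (fun t => χ (g⁻¹ * t * g)) :=
    coord_conj Ci hg.mem_normalizer fun y => by
      rw [← hwr, ← R.conj_rp hg (isRoot_sr cs h i), mem_cj]
  have Cp : Coord T (X r) (fun a => g * n i * Φ (up (-a)) * (g * n i)⁻¹) (fun t => χ ((g * n i)⁻¹ * t * (g * n i))) :=
    coord_neg (coord_conj Ci hgn.mem_normalizer fun y => by
      conv_lhs => rw [← hgr]
      rw [← R.conj_rp hgn (isRoot_sr cs h i), mem_cj])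
  let ψ : Matrix.SpecialLinearGroup (Fin 2) F →* Y := (MulAut.conj g).toMonoidHom.comp Φ
  have e1 : (fun a => g * Φ (up a) * g⁻¹) = fun a => ψ (up a) := rfl
  have e2 : (fun a => g * n i * Φ (up (-a)) * (g * n i)⁻¹) = fun a => ψ (lo a) := by
    funext a
    change _ = g * Φ (lo a) * g⁻¹
    rw [lo_eq, map_mul, map_mul, map_inv, hw]
    group
  rw [e1] at Cm
  rw [e2] at Cp
  refine ⟨ψ, _, _, ⟨Cm, Cp⟩, ?_, g, fun a => rfl⟩
  intro w₃ k t hw₃ hk ht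
  -- `k₀ = g n_i g⁻¹`
  have hk₀ : Rp cs R.nsys (w * cs.simple i * w⁻¹) (g * n i * g⁻¹) := hgn.mul hg.inv
  have hw1 : rep cs h (w * cs.simple i * w⁻¹) (-r) = r := by
    rw [rep_mul_apply, ← hwr, rep_inv_apply, hgr]
  have hw2 : rep cs h (w₃ * (w * cs.simple i * w⁻¹)⁻¹) r = r := by
    have h1 : rep cs h (w * cs.simple i * w⁻¹)⁻¹ r = -r := by
      conv_lhs => rw [← hw1]
      rw [rep_inv_apply]
    rw [rep_mul_apply, h1, map_neg, hw₃, neg_neg]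
  have h2 : g * n i * g⁻¹ * t * (g * n i * g⁻¹)⁻¹ ∈ T :=
    (Subgroup.mem_normalizer_iff.1 hk₀.mem_normalizer t).1 ht
  have h3 := char_orb R hr hdom hc Cp hw2 (hk.mul hk₀.inv) h2
  have h4 : k * (g * n i * g⁻¹)⁻¹ * (g * n i * g⁻¹ * t * (g * n i * g⁻¹)⁻¹) * (k * (g * n i * g⁻¹)⁻¹)⁻¹ =
      k * t * k⁻¹ := by group
  rw [h4] at h3
  rw [h3]
  change χ ((g * n i)⁻¹ * (g * n i * g⁻¹ * t * (g * n i * g⁻¹)⁻¹) * (g * n i)) = χ (g⁻¹ * t * g)
  congr 1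
  group

/-- **The chart at `r`.** -/
theorem exists_chart {i : I} {Φ : Matrix.SpecialLinearGroup (Fin 2) F →* Y} {χ : Y → F}
    (Ci : Coord T (X (sr i)) (fun a => Φ (up a)) χ) (hw : Φ (wS 1) = n i) {r : I → ℤ} (hr : IsRoot cs h r)
    (hdom : Dom A r)
    (hc : ∀ x, IsRoot cs h x → 0 ≤ cpr cs h x r → ∀ u ∈ X x, ∀ z ∈ X r, u * z = z * u)
    (ho : ∃ w, rep cs h w (sr i) = r) :
    ∃ (ψ : Matrix.SpecialLinearGroup (Fin 2) F →* Y) (χp χm : Y → F), Chart T X r ψ χp χm ∧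
      ∀ (w : W) (k t : Y), rep cs h w r = -r → Rp cs R.nsys w k → t ∈ T → χp (k * t * k⁻¹) = χm t := by
  obtain ⟨ψ, χp, χm, C, hQ, -⟩ := exists_chart' R Ci hw hr hdom hc ho
  exact ⟨ψ, χp, χm, C, hQ⟩

/-- **The semilinear map.** -/
theorem semi_orb [Nonempty I] (hG : GG cs h T X = ⊤) {r : I → ℤ} (hr : IsRoot cs h r)
    (hd : ∀ i, 0 ≤ cpr cs h (sr i) r)
    (hc : ∀ x, IsRoot cs h x → 0 ≤ cpr cs h x r → ∀ u ∈ X x, ∀ z ∈ X r, u * z = z * u)
    {ψ : Matrix.SpecialLinearGroup (Fin 2) F →* Y} {χp χm : Y → F} (C : Chart T X r ψ χp χm)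
    (hQ : ∀ (w : W) (k t : Y), rep cs h w r = -r → Rp cs R.nsys w k → t ∈ T → χp (k * t * k⁻¹) = χm t)
    {v w : W} (hwv : rep cs h w (rep cs h v r) = -rep cs h v r) {α β : MulAut Y} {y₀ k b : Y}
    (hk : Rp cs R.nsys w k) (hb : b ∈ RGD.B cs h T X) (D : Diag T X β 1)
    (e : MulAut.conj y₀ * α * (MulAut.conj y₀)⁻¹ = MulAut.conj (k * b) * β) {m : ℕ} (hm : α ^ m = 1) :
    ∃ (y : Y) (τ : F ≃+* F) (c : F), c ≠ 0 ∧ τ ^ m = 1 ∧
      (∀ z, (MulAut.conj y * α * (MulAut.conj y)⁻¹) z ∈ X r ↔ z ∈ X (-r)) ∧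
      ∀ t, (MulAut.conj y * α * (MulAut.conj y)⁻¹) (ψ (up t)) = ψ (lo (c * τ t)) := by
  obtain ⟨y, k₁, k₂, hk₁, hk₂, h1, h2⟩ := exists_swap' R hr hd hc hwv hk hb D e
  have hM : ∀ i j, M ((1 : Equiv.Perm I) i) ((1 : Equiv.Perm I) j) = M i j := fun _ _ => rfl
  have hA : ∀ i j, A ((1 : Equiv.Perm I) i) ((1 : Equiv.Perm I) j) = A i j := fun _ _ => rfl
  -- the field automorphism of `β` on `X (-r)`
  have hβX : ∀ z, β z ∈ X (-r) ↔ z ∈ X (-r) := fun z => Diag.root_comp R D hA hr.neg z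
  obtain ⟨τ, c₀, -, -, h3⟩ := C.neg.exists_semi C.neg D.tor hβX
  -- its order
  have hτ : τ ^ m = 1 := by
    have hβ : β = MulAut.conj ((k * b)⁻¹ * (y₀ * (α y₀)⁻¹)) * α := by
      have h3 : β = (MulAut.conj (k * b))⁻¹ * (MulAut.conj y₀ * α * (MulAut.conj y₀)⁻¹) := by
        rw [e, inv_mul_cancel_left]
      rw [h3]
      ext z
      simp only [MulAut.mul_apply, MulAut.conj_apply, ← map_inv MulAut.conj, map_mul α, map_inv α, mul_inv_rev,
        inv_inv, mul_assoc]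
    obtain ⟨s, e'⟩ := Cfsg.Agent.H441.GS.conj_pow ((k * b)⁻¹ * (y₀ * (α y₀)⁻¹)) α m
    rw [← hβ, hm, mul_one] at e'
    have D1 := D.pow m
    rw [one_pow, e'] at D1
    have hs := mem_T_of_diag R hG D1
    have hpow : ∀ j : ℕ, ∀ t ∈ T, (β ^ j) t ∈ T ∧ χm ((β ^ j) t) = (τ ^ j) (χm t) := by
      intro j
      induction j with
      | zero => intro t ht; exact ⟨ht, rfl⟩
      | succ j ih =>
        intro t ht
        obtain ⟨h4, h5⟩ := ih _ ((D.tor t).2 ht)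
        rw [pow_succ, MulAut.mul_apply, pow_succ]
        refine ⟨h4, ?_⟩
        rw [h5, h3 t ht]
        rfl
    apply C.neg.ext
    intro t ht
    rw [← (hpow m t ht).2, e', MulAut.conj_apply, C.neg.chi_conj hs ht]
    rfl
  -- the swap
  obtain ⟨γ, hγ⟩ : ∃ γ, γ = MulAut.conj k₁⁻¹ * β * MulAut.conj k₂ := ⟨_, rfl⟩
  rw [← hγ] at h2
  have hγT : Fix γ T := by
    intro z
    rw [hγ, MulAut.mul_apply, MulAut.mul_apply, MulAut.conj_apply, MulAut.conj_apply]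
    rw [← Subgroup.mem_normalizer_iff.1 hk₁.inv.mem_normalizer, D.tor,
      ← Subgroup.mem_normalizer_iff.1 hk₂.mem_normalizer]
  have hγX : ∀ z, γ z ∈ X r ↔ z ∈ X (-r) := by
    intro z
    constructor
    · intro hz
      obtain ⟨z', e1⟩ := (MulAut.conj y * α * (MulAut.conj y)⁻¹).surjective (γ z)
      have h3 : z' ∈ X (-r) := (h1 z').1 (by rwa [e1])
      rw [h2 z' h3] at e1
      rwa [← γ.injective e1]
    · intro hz
      rw [← h2 z hz]
      exact (h1 z).2 hz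
  obtain ⟨τ', c, hc0, h4, h5⟩ := C.neg.exists_semi C.pos hγT hγX
  have hττ : τ' = τ := by
    apply C.neg.ext
    intro t ht
    rw [← h5 t ht, ← h3 t ht]
    have hk₃ : Rp cs R.nsys (v⁻¹ * (w * v)) (k₁⁻¹ * β k₂) := by
      have h6 := D.rp' (R := R) hM hk₂
      rw [hat_one hM] at h6
      exact hk₁.inv.mul h6
    have h8 : rep cs h (v⁻¹ * (w * v)) r = -r := by
      rw [rep_mul_apply, rep_mul_apply, hwv, map_neg, rep_inv_apply]
    have h9 := hQ _ _ _ h8 hk₃ ((D.tor t).2 ht)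
    rw [← h9, hγ, MulAut.mul_apply, MulAut.mul_apply, MulAut.conj_apply, MulAut.conj_apply, map_mul, map_mul,
      map_inv]
    congr 1
    group
  refine ⟨y, τ, c, hc0, hτ, h1, fun t => ?_⟩
  rw [h2 _ ((C.neg.mem _).2 ⟨t, rfl⟩), ← hττ]
  exact h4 t

/-- **The start, `q ≥ 4`.** -/
theorem start_orb [Nonempty I] [Fintype F] (hq : 4 ≤ Fintype.card F) (hG : GG cs h T X = ⊤) {r : I → ℤ}
    (hr : IsRoot cs h r) (hd : ∀ i, 0 ≤ cpr cs h (sr i) r)
    (hc : ∀ x, IsRoot cs h x → 0 ≤ cpr cs h x r → ∀ u ∈ X x, ∀ z ∈ X r, u * z = z * u)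
    {ψ : Matrix.SpecialLinearGroup (Fin 2) F →* Y} {χp χm : Y → F} (C : Chart T X r ψ χp χm)
    (hQ : ∀ (w : W) (k t : Y), rep cs h w r = -r → Rp cs R.nsys w k → t ∈ T → χp (k * t * k⁻¹) = χm t)
    {v w : W} (hwv : rep cs h w (rep cs h v r) = -rep cs h v r) {α β : MulAut Y} {y₀ k b : Y}
    (hk : Rp cs R.nsys w k) (hb : b ∈ RGD.B cs h T X) (D : Diag T X β 1)
    (e : MulAut.conj y₀ * α * (MulAut.conj y₀)⁻¹ = MulAut.conj (k * b) * β) {m : ℕ} (hmp : m.Prime)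
    (hm : α ^ m = 1) :
    ∃ y : Y, (∀ z, (MulAut.conj y * α * (MulAut.conj y)⁻¹) z ∈ X r ↔ z ∈ X (-r)) ∧
      Reach (MulAut.conj y * α * (MulAut.conj y)⁻¹) 5 (X r ⊔ X (-r)) ∧
      (Fintype.card F ≠ 9 ∨ m ≠ 2 → Reach (MulAut.conj y * α * (MulAut.conj y)⁻¹) 4 (X r ⊔ X (-r))) := by
  obtain ⟨y, τ, c, hc0, hτ, h1, h2⟩ := semi_orb R hG hr hd hc C hQ hwv hk hb D e hm
  obtain ⟨a, ha⟩ : ∃ a, a = MulAut.conj y * α * (MulAut.conj y)⁻¹ := ⟨_, rfl⟩
  refine ⟨y, h1, ?_⟩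
  rw [← ha] at h2 ⊢
  have ham : a ^ m = 1 := by rw [ha, _root_.conj_pow, hm, mul_one, mul_inv_cancel]
  have hψ : ∀ t, a (ψ (u t)) = ψ (l (c * τ t)) := fun t => by rw [u_eq, h2, l_eq]
  have hne : ψ (u 1) ≠ 1 := by
    rw [u_eq]
    exact C.neg.ne_one one_ne_zero
  obtain ⟨h5, h4'⟩ := reach_sl2 hq hc0 hψ hmp hτ ham hne
  exact ⟨h5.sub C.le, fun h => (h4' (by tauto)).sub C.le⟩

end Rgd

end Cfsg.Agent.H937.Gs.TwS
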