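import Cfsg.Agent.H937.Gs.Small
import Cfsg.Agent.H519.Gs.Bad3

/-!
# The alternating bar automorphisms for `q = 2, 3` (helper937), S4327

`Bad B a g`, `4 ≤ n`: a nondegenerate 4-space `A` with `Reach a 6 (TS B A)`.

* `bad2` : `|F| = 4` (three elements `t_u t_u'` with `⟨u, u'⟩` totally isotropic);
* `bad3` : `|F| = 9` (five elements `t_v(c) t_gv(c)`).
-/

set_option autoImplicit false
set_option linter.unusedSectionVars false
set_option linter.unusedVariables false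
set_option linter.unusedSimpArgs false

namespace Cfsg.Agent.H937.Gs

open Cfsg.Agent.H91.U Cfsg.Agent.H450.UF Cfsg.Agent.H915.Gs Cfsg.Agent.H405.Gs Subgroup Module
open Cfsg.Agent.H519.Gs (Bad QF exists_cj_ti)

variable {F V : Type*} [Field F] [AddCommGroup V] [Module F V] {σ : F →+* F} {B : V →ₛₗ[σ] V →ₗ[F] F}
  [Finite F] [FiniteDimensional F V] {a : MulAut (SIso B)} {g : V → V} {θ : F}

/-- certificate `bad2` -/
def bad2_prs : List (List ℕ × List ℕ) := [([2, 0, 2, 0], [0, 2, 0, 3]), ([0, 0, 2, 2], [2, 2, 2, 2]), ([2, 0, 3, 0], [0, 2, 0, 3])]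

def bad2_word : List ℕ := [1, 2, 1, 2]

def bad2_pt : List ℕ := [2, 2, 3, 3]

def bad2_tree : List (ℕ × ℕ × ℕ) := [
  (0, 0, 1), (0, 1, 2), (1, 2, 1), (1, 0, 2), (2, 2, 3), (2, 1, 3), (2, 1, 1), (3, 2, 3), (3, 0, 3), (4, 1, 1),
  (4, 0, 3), (5, 2, 1), (5, 2, 3), (5, 0, 3), (6, 1, 3), (6, 1, 1), (6, 0, 3), (7, 2, 1), (7, 1, 3), (8, 2, 1),
  (8, 0, 3), (8, 0, 3), (9, 1, 3), (9, 1, 1), (9, 2, 3), (9, 0, 3), (10, 2, 1), (8, 0, 1), (9, 2, 2),
  (9, 0, 2), (10, 1, 2), (10, 1, 3), (9, 0, 2), (10, 2, 3), (10, 0, 2), (10, 0, 3), (10, 2, 2), (10, 0, 2),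
  (10, 2, 1), (10, 0, 1), (9, 0, 3), (7, 0, 2), (6, 1, 1), (6, 0, 1)]

/-- certificate `bad3` -/
def bad3_vs : List (List ℕ) := [[3, 5, 7, 6], [3, 7, 4, 3], [3, 3, 6, 0], [3, 3, 5, 8], [0, 3, 1, 2]]

def bad3_word : List ℕ := [0, 1, 2, 0, 1, 2, 0, 1, 2]

def bad3_pt : List ℕ := [3, 0, 1, 3]

def bad3_tree : List (ℕ × ℕ × ℕ) := [
  (0, 0, 4), (1, 1, 6), (2, 2, 6), (3, 3, 6), (4, 4, 5), (4, 4, 5), (4, 3, 4), (5, 4, 1), (5, 3, 5), (6, 4, 8),
  (6, 0, 1), (7, 4, 4), (7, 0, 1), (8, 1, 7), (9, 3, 3), (10, 4, 7), (10, 0, 2), (11, 1, 4), (12, 2, 5),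
  (13, 3, 3), (14, 4, 6), (14, 0, 4), (15, 2, 1), (16, 4, 3), (16, 0, 8), (17, 1, 5), (18, 3, 3), (19, 4, 5),
  (19, 4, 5), (19, 0, 7), (20, 2, 2), (21, 3, 3), (22, 4, 2), (22, 4, 7), (22, 0, 4), (23, 1, 1), (24, 2, 3),
  (25, 3, 3), (26, 4, 8), (26, 1, 4), (27, 3, 2), (27, 0, 8), (28, 1, 8), (29, 3, 7), (29, 0, 2), (30, 1, 4),
  (31, 2, 5), (32, 3, 3), (32, 3, 7), (32, 2, 4), (33, 3, 4), (33, 2, 1), (34, 3, 6), (35, 4, 5), (35, 0, 4),
  (36, 1, 5), (37, 3, 5), (37, 0, 6), (38, 1, 6), (39, 2, 1), (40, 3, 3), (41, 4, 4), (41, 1, 2), (42, 3, 7),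
  (42, 4, 2), (42, 4, 6), (42, 0, 3), (43, 1, 2), (44, 2, 6), (45, 3, 3), (46, 4, 3), (46, 1, 1), (47, 3, 6),
  (46, 0, 3), (47, 2, 6), (48, 3, 3), (48, 1, 6), (49, 3, 7), (49, 0, 2), (50, 1, 8), (51, 2, 7), (52, 3, 7),
  (53, 4, 4), (53, 2, 4), (54, 3, 4), (54, 3, 4), (54, 0, 1), (55, 1, 5), (56, 2, 8), (57, 3, 3), (58, 4, 7),
  (58, 3, 7), (58, 0, 1), (59, 1, 8), (60, 2, 7), (61, 3, 3), (62, 4, 1), (62, 2, 5), (63, 3, 1), (63, 0, 6),
  (64, 1, 5), (65, 2, 5), (66, 3, 4), (66, 0, 5), (67, 1, 6), (68, 3, 8), (68, 2, 2), (69, 3, 3), (69, 1, 5),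
  (70, 3, 7), (70, 0, 1), (71, 1, 8), (72, 3, 8), (72, 1, 5), (73, 2, 5), (74, 4, 3), (74, 3, 1), (75, 4, 1),
  (75, 3, 8), (75, 0, 2), (76, 1, 1), (77, 2, 2), (78, 3, 6), (78, 0, 4), (79, 4, 5), (79, 0, 8), (79, 0, 5),
  (80, 4, 5), (80, 0, 3), (80, 0, 5), (81, 1, 8), (82, 2, 2), (83, 4, 7), (83, 0, 7), (84, 1, 7), (85, 3, 4),
  (85, 1, 7), (86, 2, 1), (87, 3, 8), (88, 4, 3), (88, 3, 2), (88, 0, 5), (88, 3, 5), (88, 3, 2), (88, 0, 2),
  (89, 3, 5), (89, 1, 4), (90, 2, 7), (91, 3, 7), (92, 4, 3), (92, 0, 7), (92, 2, 1), (92, 0, 5), (93, 1, 3),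
  (94, 4, 2), (94, 0, 8), (94, 0, 6), (95, 1, 3), (96, 2, 6), (97, 4, 8), (97, 3, 6), (97, 2, 5), (97, 0, 6),
  (98, 1, 6), (99, 2, 1), (99, 2, 4), (97, 0, 1), (98, 1, 1), (95, 1, 8), (90, 1, 7), (91, 2, 3), (91, 0, 4),
  (92, 1, 6), (93, 2, 4), (93, 0, 8), (94, 1, 3), (95, 3, 7), (95, 2, 8), (96, 3, 1), (96, 1, 7), (97, 3, 7),
  (97, 3, 5), (97, 2, 2), (97, 0, 4), (98, 2, 1), (99, 4, 3), (99, 0, 5), (98, 4, 8), (98, 0, 6), (98, 0, 1),
  (99, 1, 6), (99, 2, 1), (100, 4, 2), (100, 1, 3), (101, 2, 3), (101, 0, 1), (102, 1, 2), (102, 0, 6),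
  (103, 1, 2), (103, 0, 8), (104, 3, 3), (104, 3, 7), (104, 0, 2), (105, 1, 1), (106, 4, 4), (105, 3, 7),
  (105, 2, 8), (106, 3, 6), (106, 2, 7), (107, 3, 5), (106, 0, 7), (107, 1, 2), (108, 2, 1), (109, 4, 5),
  (108, 1, 6), (109, 3, 2), (109, 0, 1), (109, 0, 2), (109, 0, 3), (109, 2, 3), (109, 2, 2), (108, 4, 6),
  (105, 2, 5), (106, 3, 5), (107, 4, 8), (107, 3, 1), (107, 0, 2), (108, 2, 4), (109, 3, 2), (110, 4, 1),
  (108, 0, 6), (104, 0, 7), (105, 1, 2), (106, 3, 7), (106, 0, 3), (106, 2, 7), (106, 0, 7), (107, 4, 4),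
  (102, 0, 7), (103, 1, 4), (103, 2, 8), (102, 0, 4), (102, 1, 8), (101, 0, 4), (99, 3, 8), (93, 2, 5),
  (93, 1, 1), (94, 3, 1), (90, 0, 1), (91, 4, 6), (89, 2, 6), (89, 4, 6), (88, 0, 2), (83, 2, 5), (83, 4, 5),
  (82, 3, 7), (81, 4, 3), (81, 0, 1), (80, 1, 7), (80, 0, 6), (80, 0, 3), (81, 4, 4), (81, 0, 7), (76, 2, 6),
  (70, 0, 8), (71, 2, 5), (70, 3, 4), (69, 4, 5), (67, 0, 4), (66, 0, 4), (65, 3, 7), (61, 0, 5), (60, 2, 4),
  (60, 1, 3), (60, 1, 5), (56, 3, 6), (51, 1, 6), (46, 1, 7), (44, 4, 4)]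

/-! ### `q = 2` -/

/-- the nontrivial element of a root group, `q = 2` -/
theorem mem_X2 (hB : HForm B) (hF : Nat.card F = 4) {u : V} (hu : B u u = 0) {c : F} (hc : c + σ c = 0) (hc0 : c ≠ 0)
    {k : SIso B} (hk : k ∈ X B u) (hk1 : k ≠ 1) : k = tv hB u hu c hc := by
  obtain ⟨d, hd, rfl⟩ := (mem_X_iff hB hu).1 hk
  have hd0 : d ≠ 0 := by
    rintro rfl
    apply hk1
    exact ext' fun x => by rw [tv_apply, zero_mul, zero_smul, add_zero]; rfl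
  obtain ⟨θ, h⟩ := fld2 hB hF
  obtain ⟨m, hm, hme⟩ := fix_of_card h.hp (by rw [hF]; norm_num) h.ne (z := d * c⁻¹) (by
    have h10 : σ c = -c := by linear_combination hc
    have h11 : σ d = -d := by linear_combination hd
    rw [map_mul, map_inv₀, h10, h11, inv_neg]
    ring)
  have h1 : d = c := by
    interval_cases m
    · rw [Nat.cast_zero] at hme
      exact absurd hme (mul_ne_zero hd0 (inv_ne_zero hc0))
    · rw [Nat.cast_one] at hme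
      field_simp at hme
      exact hme
  subst h1
  rfl

/-- totally isotropic pairs, `q = 2` -/
theorem Bad.star2 (hb : Bad B a g) (hB : HForm B) (hn : 3 ≤ finrank F V) (hF : Nat.card F = 4) {u u' : V}
    (hu : B u u = 0) (hu' : B u' u' = 0) (huu : B u u' = 0) (li : LinearIndependent F ![u, u']) {c : F}
    (hc : c + σ c = 0) (hc0 : c ≠ 0) : Reach a 2 (zpowers (tv hB u hu c hc * tv hB u' hu' c hc)) := by
  obtain ⟨z₁, z₂, hz⟩ := hb.exists_frame hB hn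
  obtain ⟨t, ht0, ht⟩ := Cfsg.Agent.ClassicalGeometry.HermWitt.norm_surj σ hB.ne_id hB.invol (-1) (by simp) (by simp)
  have h21 : B z₂ z₁ = 0 := hB.swap_zero hz.h12
  set v := z₁ + t • z₂ with hv
  have hvv : B v v = 0 := by
    rw [hv]
    simp only [map_add, LinearMap.add_apply, smul_left, smul_right, hz.h11, hz.h22, hz.h12, h21, mul_zero, add_zero,
      zero_add, mul_one]
    linear_combination ht
  have li' : LinearIndependent F ![v, g v] := by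
    rw [LinearIndependent.pair_iff]
    intro s r hsr
    have e1 : B z₁ v = 1 := by rw [hv, map_add, smul_right, hz.h11, hz.h12, mul_zero, add_zero]
    have e2 : B z₁ (g v) = 0 := by
      rw [hv, hb.add, hb.smul, map_add, smul_right, hb.alt, hz.k12, mul_zero, add_zero]
    have e3 := congrArg (fun y => B z₁ y) hsr
    simp only [map_add, map_smul, smul_eq_mul, e1, e2, map_zero, mul_one, mul_zero, add_zero] at e3
    refine ⟨e3, ?_⟩
    rw [e3, zero_smul, zero_add, smul_eq_zero] at hsr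
    refine hsr.resolve_right (hb.toSim.ne_zero hB ?_)
    intro h0
    rw [h0, map_zero] at e1
    exact zero_ne_one e1
  have hgv : B (g v) (g v) = 0 := hb.toSim.self hvv
  obtain ⟨k, hk1, hk2⟩ := exists_cj_ti hB hvv hgv (hb.alt v) hu hu' huu li' li
  have hσc : σ c = -c := by linear_combination hc
  have h2c : -σ c + σ (-σ c) = 0 := by rw [map_neg, hB.invol, ← neg_add, add_comm, hc, neg_zero]
  have hsc : σ c + σ (σ c) = 0 := by rw [hB.invol, add_comm, hc]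
  have h1 := (reach_comm a (tv hB v hvv c hc)).reach.conj k
  rw [hb.toSim.tv hB hvv hc hsc, tv_neg hB hgv hsc h2c] at h1
  refine h1.sub ?_
  have hne : ∀ {x : V} (hx : B x x = 0) {d : F} (hd : d + σ d = 0), d ≠ 0 → x ≠ 0 → tv hB x hx d hd ≠ 1 := by
    intro x hx d hd hd0 hx0 h0
    obtain ⟨y, hy⟩ := hB.exists_ne hx0
    have h3 := congrArg (fun k : SIso B => (k : V ≃ₗ[F] V) y) h0
    simp only [tv_apply] at h3
    have h4 : (d * B x y) • x = 0 := by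
      have : ((1 : SIso B) : V ≃ₗ[F] V) y = y := rfl
      rw [this] at h3
      exact add_eq_left.1 h3
    rcases smul_eq_zero.1 h4 with h5 | h5
    · exact (mul_ne_zero hd0 hy) h5
    · exact hx0 h5
  have hv0 : v ≠ 0 := by
    have := li'.ne_zero 0
    exact this
  have hgv0 : g v ≠ 0 := hb.toSim.ne_zero hB hv0
  have hconj : ∀ {x y : V} (hx : B x x = 0) (hy : B y y = 0) {d : F} (hd : d + σ d = 0), d ≠ 0 → x ≠ 0 →
      cj k (X B x) = X B y → k * tv hB x hx d hd * k⁻¹ = tv hB y hy c hc := by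
    intro x y hx hy d hd hd0 hx0 hxy
    refine mem_X2 hB hF hy hc hc0 ?_ ?_
    · rw [← hxy]
      exact ⟨_, tv_mem hB x hx d hd, rfl⟩
    · intro h0
      rw [mul_inv_eq_one, mul_eq_left] at h0
      exact hne hx hd hd0 hx0 h0
  rw [cj, MonoidHom.map_zpowers]
  change _ ≤ zpowers (MulAut.conj k (tv hB v hvv c hc * tv hB (g v) hgv (-σ c) h2c))
  rw [map_mul, MulAut.conj_apply, MulAut.conj_apply, hconj hvv hu hc hc0 hv0 hk1,
    hconj hgv hu' h2c (neg_ne_zero.2 (sig_ne_zero hc0)) hgv0 hk2]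

/-- **`q = 2`, BAD: six conjugates, `SU_4(2)`** -/
theorem bad2 (hb : Bad B a g) (hB : HForm B) (hn : 4 ≤ finrank F V) (hF : Nat.card F = 4) :
    ∃ A : Submodule F V, Nd B A ∧ finrank F A = 4 ∧ Reach a 6 (TS B A) := by
  obtain ⟨θ, h⟩ := fld2 hB hF
  obtain ⟨vs, hvs, hl⟩ := exists_on hB hn
  have hc1 : ev 2 θ 2 + σ (ev 2 θ 2) = 0 := by rw [← h.ev_cj, ← h.ev_add]; exact ev_zero
  have hc0 : ev 2 θ 2 ≠ 0 := h.ev_ne (by norm_num) (by norm_num)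
  -- one pair
  have key : ∀ u u' m m' : List ℕ, (u.length = 4 ∧ u'.length = 4 ∧ m.length = 4 ∧ m'.length = 4) →
      (fm 2 1 1 u u = 0 ∧ fm 2 1 1 u' u' = 0 ∧ fm 2 1 1 u u' = 0 ∧ fm 2 1 1 m u' = 0) →
      (fm 2 1 1 m u ≠ 0 ∧ fm 2 1 1 m u < 2 * 2 ∧ fm 2 1 1 m' u' ≠ 0 ∧ fm 2 1 1 m' u' < 2 * 2) →
      ∃ w : SIso B, Reach a 2 (zpowers w) ∧ ∀ x, (w : V ≃ₗ[F] V) x = wd B 2 θ vs [(u, 2), (u', 2)] x := by
    intro u u' m m' hlen h0 h1
    rw [← hl] at hlen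
    obtain ⟨l1, l2, l3, l4⟩ := hlen
    obtain ⟨e1, e2, e3, e4⟩ := h0
    obtain ⟨f1, f2, f3, f4⟩ := h1
    have hu : B (lc 2 θ u vs) (lc 2 θ u vs) = 0 := by rw [form_lc h hB hvs l1 l1, e1, ev_zero]
    have hu' : B (lc 2 θ u' vs) (lc 2 θ u' vs) = 0 := by rw [form_lc h hB hvs l2 l2, e2, ev_zero]
    have huu : B (lc 2 θ u vs) (lc 2 θ u' vs) = 0 := by rw [form_lc h hB hvs l1 l2, e3, ev_zero]
    have li : LinearIndependent F ![lc 2 θ u vs, lc 2 θ u' vs] := by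
      rw [LinearIndependent.pair_iff]
      intro s r hsr
      have g1 := congrArg (fun y => B (lc 2 θ m vs) y) hsr
      have g2 := congrArg (fun y => B (lc 2 θ m' vs) y) hsr
      simp only [map_add, smul_right, map_zero, form_lc h hB hvs l3 l1, form_lc h hB hvs l3 l2, e4, ev_zero, mul_zero,
        add_zero] at g1
      have g3 : s = 0 := (mul_eq_zero.1 g1).resolve_right (h.ev_ne f1 f2)
      simp only [map_add, smul_right, map_zero, g3, zero_smul, zero_mul, zero_add, form_lc h hB hvs l4 l2] at g2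
      exact ⟨g3, (mul_eq_zero.1 g2).resolve_right (h.ev_ne f3 f4)⟩
    exact ⟨_, Bad.star2 hb hB (by omega) hF hu hu' huu li hc1 hc0, fun x => by
      rw [Subgroup.coe_mul, LinearEquiv.mul_apply, tv_apply, tv_apply]; rfl⟩
  obtain ⟨w1, r1, hw1⟩ := key [2, 0, 2, 0] [0, 2, 0, 3] [2, 0, 0, 0] [0, 2, 0, 0] (by decide) (by decide) (by decide)
  obtain ⟨w2, r2, hw2⟩ := key [0, 0, 2, 2] [2, 2, 2, 2] [2, 0, 2, 0] [2, 0, 0, 0] (by decide) (by decide) (by decide)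
  obtain ⟨w3, r3, hw3⟩ := key [2, 0, 3, 0] [0, 2, 0, 3] [2, 0, 0, 0] [0, 2, 0, 0] (by decide) (by decide) (by decide)
  refine ⟨Submodule.span F {v | v ∈ vs}, hvs.nd hB, by rw [hvs.li hB, hl], (reach_join (reach_join r1 r2) r3).sub ?_⟩
  rw [TS_le]
  refine eng h hB hvs (gensOf bad2_prs 2 2) ?_ bad2_word bad2_pt 2 bad2_tree (by rw [hl]; decide +kernel)
  intro ts hts
  have h5 : ts = [([2, 0, 2, 0], 2), ([0, 2, 0, 3], 2)] ∨ ts = [([0, 0, 2, 2], 2), ([2, 2, 2, 2], 2)] ∨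
      ts = [([2, 0, 3, 0], 2), ([0, 2, 0, 3], 2)] := by
    simpa [gensOf, bad2_prs] using hts
  rcases h5 with rfl | rfl | rfl
  · exact ⟨w1, mem_sup_left (mem_sup_left (mem_zpowers _)), hw1⟩
  · exact ⟨w2, mem_sup_left (mem_sup_right (mem_zpowers _)), hw2⟩
  · exact ⟨w3, mem_sup_right (mem_zpowers _), hw3⟩

/-! ### `q = 3` -/

/-- the coordinates of `g v` -/
def gcode (m : List ℕ) : List ℕ :=
  match m with
  | [a, b, c, d] => [mulc 3 0 2 6 (cjc 3 0 b), cjc 3 0 a, mulc 3 0 2 6 (cjc 3 0 d), cjc 3 0 c]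
  | _ => []

/-- **`q = 3`, BAD: six conjugates, `SU_4(3)`** -/
theorem bad3 (hb : Bad B a g) (hB : HForm B) (hn : 4 ≤ finrank F V) (hF : Nat.card F = 9) :
    ∃ A : Submodule F V, Nd B A ∧ finrank F A = 4 ∧ Reach a 6 (TS B A) := by
  obtain ⟨θ, h⟩ := fld3 hB hF
  obtain ⟨z₁, z₂, hz⟩ := hb.exists_frame hB (by omega)
  have h11 := hz.h11
  have h22 := hz.h22
  have h12 := hz.h12
  have k11 : B z₁ (g z₁) = 0 := hb.alt _
  have k22 : B z₂ (g z₂) = 0 := hb.alt _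
  have k12 := hz.k12
  have k21 : B z₂ (g z₁) = 0 := by rw [hb.swapg, k12, neg_zero]
  have l12 : B (g z₁) z₂ = 0 := hB.swap_zero k21
  have m11 : B (g z₁) (g z₁) = 1 := by rw [hb.gself hB, h11]
  have m22 : B (g z₂) (g z₂) = 1 := by rw [hb.gself hB, h22]
  have m12 : B (g z₁) (g z₂) = 0 := by rw [hb.form, h12, map_zero]
  obtain ⟨vs, hvs⟩ : ∃ vs, vs = [z₁, g z₁, z₂, g z₂] := ⟨_, rfl⟩
  have hon : ON B vs := by
    rw [hvs]
    constructor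
    · simp [h12, k11, k22, k12, l12, m12]
    · simp [h11, h22, m11, m22]
  have hl : vs.length = 4 := by rw [hvs]; rfl
  have e6 : ev 3 θ 6 = -1 := by
    have hch := h.ch
    have h3 : (3 : F) = 0 := by exact_mod_cast CharP.cast_eq_zero F 3
    rw [ev]
    push_cast
    linear_combination h3
  have hg : ∀ m : List ℕ, m.length = 4 → g (lc 3 θ m vs) = lc 3 θ (gcode m) vs := by
    intro m hm
    obtain ⟨a, b, c, d, rfl⟩ : ∃ a b c d, m = [a, b, c, d] := by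
      match m, hm with
      | [a, b, c, d], _ => exact ⟨a, b, c, d, rfl⟩
    rw [hvs]
    simp only [gcode, lc, h.ev_mul, h.ev_cj, e6, hb.add, hb.smul, hb.gg hB, hb.toSim.zero, add_zero]
    module
  have hc1 : ev 3 θ 1 + σ (ev 3 θ 1) = 0 := by rw [← h.ev_cj, ← h.ev_add]; exact ev_zero
  have hσ1 : σ (ev 3 θ 1) = -ev 3 θ 1 := by linear_combination hc1
  -- the elements
  have key : ∀ i : Fin 5, ∃ u : SIso B, ∀ x, ((u * (a u)⁻¹ : SIso B) : V ≃ₗ[F] V) x =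
      wd B 3 θ vs [(bad3_vs.getD i [], 1), (gcode (bad3_vs.getD i []), 1)] x := by
    intro i
    have l1 : (bad3_vs.getD i []).length = vs.length := by rw [hl]; fin_cases i <;> rfl
    have e1 : fm 3 0 2 (bad3_vs.getD i []) (bad3_vs.getD i []) = 0 := by fin_cases i <;> rfl
    have hv : B (lc 3 θ (bad3_vs.getD i []) vs) (lc 3 θ (bad3_vs.getD i []) vs) = 0 := by
      rw [form_lc h hB hon l1 l1, e1, ev_zero]
    have hgv := hb.toSim.self hv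
    have hsc : σ (ev 3 θ 1) + σ (σ (ev 3 θ 1)) = 0 := by rw [hB.invol, add_comm, hc1]
    have h2c : -σ (ev 3 θ 1) + σ (-σ (ev 3 θ 1)) = 0 := by rw [map_neg, hB.invol, ← neg_add, add_comm, hc1, neg_zero]
    refine ⟨tv hB _ hv (ev 3 θ 1) hc1, fun x => ?_⟩
    rw [hb.toSim.tv hB hv hc1 hsc, tv_neg hB hgv hsc h2c, Subgroup.coe_mul, LinearEquiv.mul_apply, tv_apply, tv_apply,
      hσ1, neg_neg, hg _ (by rw [l1, hl])]
    rfl
  choose u hu using key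
  refine ⟨Submodule.span F {v | v ∈ vs}, hon.nd hB, by rw [hon.li hB, hl], (Reach₁.comm a u).reach.sub ?_⟩
  rw [TS_le]
  refine eng h hB hon (bad3_vs.map fun m => [(m, 1), (gcode m, 1)]) ?_ bad3_word bad3_pt 1 bad3_tree
    (by rw [hl]; decide +kernel)
  intro ts hts
  obtain ⟨m, hm, rfl⟩ := List.mem_map.1 hts
  obtain ⟨i, hi, rfl⟩ := List.mem_iff_getElem.1 hm
  have hi5 : i < 5 := hi
  refine ⟨_, Subgroup.subset_closure ⟨⟨i, hi5⟩, rfl⟩, fun x => ?_⟩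
  rw [hu]
  have h6 : bad3_vs.getD i [] = bad3_vs[i] := List.getD_eq_getElem _ _ hi
  rw [h6]
  rfl

end Cfsg.Agent.H937.Gs
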