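import Cfsg.Agent.H937.Gs.Eng

/-!
# Certificates for `SU_3(3)`, `SU_3(5)`, `SU_4(2)`, `SU_5(2)` (helper937; generated), S4327

Hyperbolic pairs, words and trees of images for `H937.Gs.eng`.
-/

set_option autoImplicit false

namespace Cfsg.Agent.H937.Gs

/-- certificate `q3_1` -/
def q3_1_prs : List (List ℕ × List ℕ) := [([0, 6, 7], [3, 1, 6]), ([0, 5, 2], [4, 8, 8])]

def q3_1_word : List ℕ := [0, 0]

def q3_1_pt : List ℕ := [3, 2, 1]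

def q3_1_tree : List (ℕ × ℕ × ℕ) := [
  (0, 1, 8), (0, 0, 7), (1, 1, 1), (1, 0, 8), (2, 1, 6), (2, 0, 2), (3, 1, 3), (3, 0, 1), (4, 1, 4), (4, 0, 4),
  (5, 1, 4), (5, 0, 5), (6, 1, 8), (5, 0, 6), (6, 1, 1), (6, 0, 2), (7, 1, 4), (7, 1, 2), (6, 0, 1), (7, 1, 2),
  (7, 1, 8), (6, 0, 1), (6, 0, 4), (5, 0, 2), (5, 0, 1), (4, 0, 6), (4, 0, 1)]

/-- certificate `q3_2` -/
def q3_2_prs : List (List ℕ × List ℕ) := [([3, 3, 1], [0, 1, 4]), ([8, 3, 0], [5, 4, 5])]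

def q3_2_word : List ℕ := [0, 1, 0, 1]

def q3_2_pt : List ℕ := [3, 0, 5]

def q3_2_tree : List (ℕ × ℕ × ℕ) := [
  (0, 0, 4), (1, 1, 2), (1, 0, 1), (2, 1, 1), (2, 1, 7), (2, 1, 8), (2, 0, 7), (3, 1, 6), (3, 0, 1), (4, 1, 4),
  (4, 0, 1), (5, 1, 4), (5, 0, 6), (6, 1, 2), (6, 0, 2), (6, 0, 8), (7, 1, 6), (6, 0, 6), (6, 1, 6), (6, 0, 1),
  (7, 1, 7), (7, 0, 6), (8, 1, 5), (7, 0, 4), (7, 0, 7), (7, 1, 3), (6, 1, 5)]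

/-- certificate `q5_1` -/
def q5_1_prs : List (List ℕ × List ℕ) := [([2, 16, 13], [4, 13, 12]), ([12, 11, 16], [18, 4, 13])]

def q5_1_word : List ℕ := [0, 1, 0, 1]

def q5_1_pt : List ℕ := [5, 22, 13]

def q5_1_tree : List (ℕ × ℕ × ℕ) := [
  (0, 0, 11), (1, 1, 19), (1, 1, 18), (1, 1, 19), (1, 0, 22), (2, 1, 3), (2, 0, 23), (2, 0, 7), (3, 1, 22),
  (3, 0, 4), (3, 0, 8), (4, 1, 24), (4, 1, 11), (4, 0, 8), (5, 1, 19), (5, 0, 11), (6, 1, 18), (6, 1, 18),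
  (6, 0, 1), (7, 1, 15), (7, 0, 11), (8, 1, 7), (8, 0, 3), (9, 1, 22), (9, 0, 19), (9, 1, 11), (9, 0, 8),
  (10, 1, 9), (10, 0, 2), (11, 1, 16), (11, 0, 14), (12, 1, 19), (12, 0, 18), (12, 0, 3), (13, 1, 16),
  (13, 0, 11), (13, 1, 14), (13, 1, 22), (13, 0, 3), (14, 1, 1), (14, 0, 13), (15, 1, 6), (15, 0, 13),
  (16, 1, 15), (16, 0, 10), (16, 0, 12), (17, 1, 8), (17, 0, 6), (17, 1, 3), (17, 0, 9), (18, 1, 23),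
  (18, 0, 9), (18, 1, 6), (18, 0, 7), (18, 0, 8), (17, 0, 12), (16, 1, 17), (16, 1, 1), (15, 1, 17),
  (15, 0, 10), (15, 0, 24), (16, 1, 6), (16, 1, 1), (16, 0, 22), (17, 1, 5), (17, 1, 16), (17, 1, 20),
  (17, 0, 21), (17, 0, 2), (17, 1, 4), (17, 1, 12), (17, 0, 6), (17, 1, 10), (17, 0, 5), (18, 1, 4),
  (17, 0, 13), (18, 1, 2), (18, 0, 7), (19, 1, 8), (19, 1, 4), (19, 1, 8), (19, 0, 23), (20, 1, 16),
  (20, 0, 12), (21, 1, 4), (21, 1, 24), (21, 0, 12), (19, 1, 18), (18, 0, 4), (17, 1, 17), (17, 0, 1),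
  (16, 1, 11), (16, 1, 13), (16, 0, 14), (16, 0, 17), (17, 1, 22), (17, 0, 2), (17, 0, 24), (18, 1, 13),
  (17, 0, 23), (16, 1, 2), (16, 0, 8), (16, 0, 16), (16, 0, 6), (17, 1, 3), (16, 0, 14), (16, 1, 13),
  (16, 0, 23), (15, 0, 6), (16, 1, 1), (16, 1, 15), (15, 0, 10), (16, 1, 5), (16, 0, 6), (17, 1, 2),
  (17, 1, 10), (16, 1, 22), (16, 1, 13), (11, 0, 22), (11, 1, 1), (10, 0, 1), (10, 0, 8), (11, 1, 3),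
  (11, 1, 15), (3, 0, 4)]

/-- certificate `q5_2` -/
def q5_2_prs : List (List ℕ × List ℕ) := [([10, 1, 23], [3, 18, 3]), ([23, 13, 18], [13, 1, 17])]

def q5_2_word : List ℕ := [0, 1, 0, 1]

def q5_2_pt : List ℕ := [5, 5, 23]

def q5_2_tree : List (ℕ × ℕ × ℕ) := [
  (0, 0, 15), (1, 1, 9), (1, 0, 19), (2, 1, 6), (2, 1, 15), (2, 0, 2), (3, 1, 13), (3, 0, 22), (4, 1, 4),
  (4, 0, 9), (5, 1, 16), (5, 0, 18), (6, 1, 4), (6, 0, 18), (7, 1, 21), (7, 0, 10), (8, 1, 22), (8, 0, 24),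
  (9, 1, 3), (9, 0, 1), (10, 1, 23), (10, 0, 12), (11, 1, 3), (11, 1, 14), (11, 1, 6), (11, 0, 20),
  (12, 1, 19), (12, 0, 22), (13, 1, 18), (13, 0, 24), (14, 1, 23), (14, 0, 17), (15, 1, 18), (15, 0, 19),
  (16, 1, 24), (16, 1, 24), (16, 0, 2), (17, 1, 21), (17, 1, 10), (17, 1, 17), (17, 0, 1), (18, 1, 17),
  (18, 0, 15), (19, 1, 19), (19, 0, 7), (20, 1, 18), (20, 1, 12), (20, 0, 23), (21, 1, 7), (21, 1, 5),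
  (21, 0, 6), (22, 1, 9), (22, 0, 15), (23, 1, 10), (23, 0, 18), (24, 1, 22), (24, 1, 15), (24, 0, 15),
  (24, 0, 12), (25, 1, 15), (25, 0, 15), (25, 1, 23), (25, 1, 9), (24, 0, 22), (24, 1, 20), (24, 0, 9),
  (24, 0, 11), (24, 0, 9), (25, 1, 9), (24, 0, 12), (24, 0, 8), (25, 1, 9), (25, 1, 15), (25, 0, 6),
  (26, 1, 21), (26, 1, 6), (26, 1, 5), (26, 0, 12), (27, 1, 19), (27, 0, 16), (27, 0, 18), (28, 1, 14),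
  (28, 0, 3), (28, 1, 18), (27, 0, 14), (27, 0, 10), (27, 0, 10), (27, 0, 11), (28, 1, 17), (28, 0, 8),
  (29, 1, 23), (29, 0, 5), (25, 0, 16), (26, 1, 15), (25, 1, 6), (25, 1, 16), (25, 0, 8), (25, 0, 8),
  (26, 1, 4), (25, 0, 23), (25, 0, 24), (25, 0, 17), (24, 1, 7), (24, 1, 24), (24, 0, 21), (25, 1, 4),
  (25, 1, 13), (24, 0, 19), (25, 1, 22), (25, 0, 1), (25, 0, 23), (26, 1, 16), (25, 0, 24), (26, 1, 9),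
  (26, 0, 15), (26, 0, 12), (25, 0, 9), (23, 0, 6), (21, 0, 20), (18, 0, 24), (15, 1, 23), (14, 0, 9),
  (14, 0, 11), (12, 0, 21), (12, 0, 2)]

/-- certificate `q5_3` -/
def q5_3_prs : List (List ℕ × List ℕ) := [([7, 8, 21], [1, 24, 7]), ([21, 1, 7], [6, 0, 20])]

def q5_3_word : List ℕ := [0, 0]

def q5_3_pt : List ℕ := [5, 23, 5]

def q5_3_tree : List (ℕ × ℕ × ℕ) := [
  (0, 1, 4), (0, 0, 8), (1, 1, 8), (1, 0, 13), (2, 1, 24), (2, 0, 8), (3, 1, 16), (3, 0, 11), (4, 1, 5),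
  (4, 0, 8), (5, 1, 2), (5, 0, 18), (6, 1, 11), (6, 0, 6), (7, 1, 21), (7, 0, 24), (8, 1, 15), (8, 0, 8),
  (9, 1, 6), (9, 0, 17), (10, 1, 13), (10, 0, 9), (11, 1, 12), (11, 0, 10), (11, 0, 18), (12, 1, 2),
  (12, 0, 3), (13, 1, 19), (13, 0, 2), (14, 1, 12), (14, 1, 18), (14, 0, 8), (15, 1, 22), (15, 0, 20),
  (16, 1, 20), (16, 0, 18), (17, 1, 11), (17, 1, 16), (17, 0, 24), (18, 1, 13), (18, 0, 15), (19, 1, 8),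
  (19, 1, 3), (19, 0, 7), (20, 1, 14), (20, 0, 15), (21, 1, 16), (21, 0, 14), (22, 1, 6), (22, 0, 3),
  (22, 0, 12), (23, 1, 10), (23, 0, 23), (24, 1, 1), (24, 0, 4), (24, 0, 8), (24, 1, 8), (23, 0, 13),
  (24, 1, 7), (24, 0, 5), (25, 1, 5), (25, 1, 20), (25, 0, 17), (26, 1, 2), (26, 0, 8), (26, 0, 14),
  (26, 0, 3), (27, 1, 10), (27, 0, 4), (28, 1, 7), (25, 1, 21), (24, 0, 18), (25, 1, 15), (25, 0, 16),
  (26, 1, 7), (26, 0, 14), (27, 1, 18), (27, 0, 12), (27, 0, 11), (28, 1, 10), (28, 0, 11), (29, 1, 12),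
  (28, 1, 14), (28, 0, 4), (27, 1, 24), (27, 1, 9), (26, 0, 13), (27, 1, 8), (27, 1, 20), (27, 1, 20),
  (27, 0, 4), (28, 1, 22), (27, 0, 23), (27, 0, 14), (28, 1, 21), (28, 0, 10), (29, 1, 19), (29, 0, 23),
  (29, 0, 6), (29, 0, 5), (29, 0, 17), (28, 1, 14), (28, 1, 16), (28, 0, 6), (26, 0, 17), (26, 0, 16),
  (25, 0, 20), (26, 1, 23), (26, 0, 17), (20, 1, 15), (17, 0, 5), (16, 1, 14), (16, 1, 5), (14, 0, 10),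
  (15, 1, 18), (15, 0, 10), (15, 0, 7), (15, 0, 11), (16, 1, 7), (15, 0, 7), (14, 1, 6), (12, 0, 19),
  (12, 1, 20), (12, 0, 10), (7, 1, 21)]

/-- certificate `q5_4` -/
def q5_4_prs : List (List ℕ × List ℕ) := [([17, 11, 2], [17, 3, 16]), ([8, 21, 1], [5, 7, 20])]

def q5_4_word : List ℕ := [0, 1, 1, 0, 1, 1, 0, 1, 1, 0, 1, 1, 0, 1, 1, 0, 1, 1]

def q5_4_pt : List ℕ := [5, 16, 2]

def q5_4_tree : List (ℕ × ℕ × ℕ) := [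
  (0, 0, 9), (1, 1, 8), (1, 0, 18), (2, 1, 13), (2, 0, 3), (3, 1, 6), (3, 1, 14), (3, 0, 7), (4, 1, 11),
  (4, 0, 2), (5, 1, 6), (5, 1, 12), (5, 0, 10), (6, 1, 18), (6, 0, 16), (7, 1, 24), (7, 0, 10), (8, 1, 16),
  (8, 0, 17), (9, 1, 8), (9, 0, 22), (10, 1, 24), (10, 0, 1), (10, 0, 18), (11, 1, 19), (11, 0, 23),
  (12, 1, 10), (12, 0, 3), (13, 1, 10), (13, 0, 17), (14, 1, 19), (14, 0, 17), (15, 1, 22), (15, 0, 8),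
  (15, 1, 3), (15, 0, 5), (16, 1, 22), (16, 0, 18), (17, 1, 10), (17, 0, 4), (18, 1, 9), (18, 0, 12),
  (19, 1, 13), (19, 0, 19), (20, 1, 8), (19, 0, 12), (20, 1, 21), (20, 0, 15), (19, 0, 11), (19, 0, 15),
  (19, 0, 3), (20, 1, 8), (19, 1, 19), (19, 0, 3), (19, 0, 8), (20, 1, 13), (20, 0, 2), (21, 1, 18),
  (21, 0, 24), (22, 1, 18), (22, 1, 6), (22, 1, 11), (22, 0, 13), (23, 1, 9), (23, 0, 5), (23, 1, 4),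
  (23, 1, 19), (22, 0, 19), (22, 0, 16), (23, 1, 5), (22, 0, 12), (23, 1, 15), (23, 0, 9), (23, 0, 7),
  (24, 1, 8), (24, 0, 19), (25, 1, 7), (25, 0, 19), (25, 0, 6), (25, 0, 10), (26, 1, 3), (26, 0, 11),
  (26, 0, 22), (27, 1, 12), (27, 0, 5), (28, 1, 6), (28, 0, 24), (29, 1, 14), (27, 0, 14), (27, 1, 22),
  (27, 0, 10), (27, 0, 6), (27, 0, 1), (28, 1, 9), (28, 0, 11), (28, 0, 12), (28, 0, 2), (28, 1, 24),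
  (28, 0, 24), (28, 0, 2), (25, 0, 21), (24, 0, 24), (24, 0, 11), (25, 1, 17), (25, 0, 21), (25, 1, 9),
  (25, 1, 3), (25, 0, 7), (25, 1, 7), (25, 0, 13), (24, 0, 10), (23, 0, 24), (23, 0, 14), (21, 0, 17),
  (21, 0, 5), (22, 1, 7), (20, 0, 12), (18, 0, 6), (19, 1, 24), (19, 1, 14), (19, 0, 2), (19, 0, 23),
  (14, 1, 21), (9, 0, 1), (5, 0, 9)]

/-- certificate `q2_4` -/
def q2_4_prs : List (List ℕ × List ℕ) := [([3, 1, 0, 0], [2, 2, 1, 1]), ([1, 3, 2, 2], [2, 2, 3, 3]), ([0, 3, 0, 2], [2, 1, 3, 1])]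

def q2_4_word : List ℕ := [0, 1, 0, 1]

def q2_4_pt : List ℕ := [0, 0, 2, 2]

def q2_4_tree : List (ℕ × ℕ × ℕ) := [
  (0, 2, 2), (0, 0, 1), (1, 1, 1), (1, 0, 2), (2, 1, 3), (3, 2, 2), (3, 0, 3), (4, 1, 2), (4, 1, 2), (5, 2, 3),
  (5, 0, 1), (6, 1, 3), (6, 1, 2), (6, 0, 1), (7, 1, 3), (8, 2, 3), (8, 0, 3), (8, 1, 3), (9, 2, 1), (9, 1, 3),
  (10, 2, 3), (10, 1, 3), (11, 2, 1), (11, 0, 1), (9, 1, 3), (10, 2, 1), (10, 0, 2), (11, 1, 2), (11, 0, 2),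
  (12, 2, 2), (12, 2, 1), (12, 2, 2), (11, 1, 2), (11, 1, 1), (12, 2, 2), (12, 0, 3), (13, 2, 3), (12, 2, 2),
  (12, 2, 3), (10, 2, 3), (10, 2, 1), (8, 0, 2), (6, 1, 1), (3, 0, 3)]

/-- certificate `q2_5` -/
def q2_5_prs : List (List ℕ × List ℕ) := [([2, 0, 1, 3, 3], [0, 1, 1, 0, 0]), ([0, 1, 1, 2, 2], [0, 2, 2, 1, 3]), ([0, 0, 3, 0, 1], [2, 1, 0, 3, 1])]

def q2_5_word : List ℕ := [0, 2, 0, 2, 0, 2]

def q2_5_pt : List ℕ := [2, 0, 0, 3, 0]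

def q2_5_tree : List (ℕ × ℕ × ℕ) := [
  (0, 1, 2), (0, 0, 3), (1, 1, 2), (2, 2, 3), (2, 0, 2), (3, 1, 2), (4, 2, 3), (4, 0, 1), (5, 2, 1), (5, 0, 2),
  (6, 1, 2), (7, 2, 2), (7, 1, 2), (8, 2, 3), (8, 0, 2), (9, 1, 2), (10, 2, 1), (10, 0, 1), (11, 1, 2),
  (12, 2, 2), (12, 0, 2), (13, 1, 2), (14, 2, 1), (14, 0, 2), (15, 1, 2), (16, 2, 2), (16, 0, 1), (17, 1, 2),
  (18, 2, 1), (18, 0, 3), (19, 1, 2), (19, 0, 2), (20, 1, 2), (20, 0, 3), (21, 1, 2), (22, 2, 3), (22, 0, 1),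
  (23, 1, 2), (23, 0, 3), (24, 2, 2), (24, 2, 3), (24, 1, 2), (25, 2, 1), (25, 0, 3), (26, 1, 2), (26, 1, 2),
  (27, 2, 3), (27, 0, 2), (28, 1, 2), (28, 1, 2), (29, 2, 1), (28, 0, 2), (29, 2, 1), (29, 0, 1), (30, 2, 1),
  (30, 0, 3), (31, 1, 2), (32, 2, 2), (32, 0, 1), (32, 1, 3), (33, 2, 1), (33, 0, 1), (34, 1, 2), (35, 2, 2),
  (35, 0, 2), (36, 1, 1), (37, 2, 3), (37, 1, 2), (37, 0, 3), (37, 0, 3), (38, 2, 3), (38, 0, 1), (38, 0, 1),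
  (38, 0, 1), (39, 2, 3), (39, 0, 2), (40, 1, 2), (40, 0, 1), (41, 1, 2), (42, 2, 3), (41, 2, 3), (40, 0, 3),
  (41, 1, 2), (41, 0, 2), (41, 1, 2), (41, 2, 3), (41, 0, 1), (42, 2, 2), (42, 0, 3), (43, 2, 1), (43, 0, 2),
  (43, 0, 1), (44, 1, 2), (45, 2, 3), (45, 1, 2), (43, 0, 2), (43, 0, 3), (44, 1, 3), (44, 2, 1), (43, 0, 1),
  (44, 2, 1), (44, 2, 2), (44, 0, 2), (45, 2, 3), (45, 1, 2), (46, 2, 3), (46, 0, 1), (46, 1, 2), (47, 2, 1),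
  (47, 0, 1), (48, 1, 2), (49, 2, 3), (48, 0, 1), (49, 1, 2), (49, 0, 2), (50, 1, 2), (50, 1, 1), (49, 0, 3),
  (49, 2, 2), (49, 2, 2), (49, 0, 3), (49, 1, 2), (50, 2, 3), (48, 2, 3), (47, 0, 1), (48, 1, 2), (48, 2, 2),
  (47, 2, 2), (46, 0, 2), (47, 2, 1), (47, 0, 1), (48, 2, 1), (48, 0, 1), (49, 2, 2), (49, 1, 2), (50, 2, 2),
  (48, 2, 1), (48, 2, 3), (48, 2, 3), (48, 0, 1), (47, 2, 2), (47, 0, 1), (48, 2, 2), (48, 2, 3), (48, 1, 2),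
  (49, 2, 1), (46, 2, 2), (46, 2, 3), (43, 0, 3), (44, 2, 2), (44, 2, 1), (43, 0, 1), (37, 2, 2), (37, 1, 2),
  (38, 2, 1), (36, 0, 2), (37, 1, 2), (37, 1, 1), (35, 0, 3), (32, 1, 2), (33, 2, 2), (25, 0, 1), (23, 0, 3),
  (22, 2, 2)]

end Cfsg.Agent.H937.Gs
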