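import Cfsg.Agent.H937.Gs.Star

/-!
# Certificates in special unitary groups over `F_{p²}` (helper937), S4327

Elements of `F` are coded by natural numbers `x * p + y ↦ x + y θ`; vectors of the span of an orthonormal list `vs` by lists
of codes.  `eng` : if `J` contains products of transvections given by `gens`, if a word in them is a transvection with centre
`p₀` and if the generators move `p₀` to all isotropic points (a tree of images), then `J` contains all root groups `X B u`,
`u ∈ span vs` isotropic.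
-/

set_option autoImplicit false
set_option linter.unusedSectionVars false
set_option linter.unusedVariables false

namespace Cfsg.Agent.H937.Gs

open Cfsg.Agent.H91.U Cfsg.Agent.H450.UF Cfsg.Agent.H915.Gs Subgroup Module

variable {F V : Type*} [Field F] [AddCommGroup V] [Module F V] {σ : F →+* F} {B : V →ₛₗ[σ] V →ₗ[F] F}

/-! ### codes of field elements -/

section codes

/-- the value of a code -/
def ev (p : ℕ) (θ : F) (a : ℕ) : F := ((a / p : ℕ) : F) + ((a % p : ℕ) : F) * θ

def addc (p a b : ℕ) : ℕ := (a / p + b / p) % p * p + (a % p + b % p) % p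

def mulc (p na nb a b : ℕ) : ℕ :=
  ((a / p) * (b / p) + (a % p) * (b % p) * nb) % p * p +
    ((a / p) * (b % p) + (a % p) * (b / p) + (a % p) * (b % p) * na) % p

def cjc (p na a : ℕ) : ℕ := (a / p + a % p * na) % p * p + (p - a % p) % p

/-- `F = F_p(θ)` with `p²` elements, `θ² = na θ + nb`, `σ θ = na - θ` -/
structure Fld (σ : F →+* F) (p na nb : ℕ) (θ : F) : Prop where
  hp : p.Prime
  ch : CharP F p
  rel : θ * θ = na * θ + nb
  cj : σ θ = na - θ
  ne : σ θ ≠ θ
  sur : ∀ z : F, ∃ a < p * p, ev p θ a = z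

variable {p na nb : ℕ} {θ : F}

theorem Fld.cast_mod (h : Fld σ p na nb θ) (x : ℕ) : ((x % p : ℕ) : F) = x := by
  have := h.ch
  have h1 := congrArg (Nat.cast : ℕ → F) (Nat.div_add_mod x p)
  rwa [Nat.cast_add, Nat.cast_mul, CharP.cast_eq_zero, zero_mul, zero_add] at h1

theorem Fld.ev_mk (h : Fld σ p na nb θ) (x y : ℕ) : ev p θ (x % p * p + y % p) = x + y * θ := by
  have hp := h.hp.pos
  rw [ev, mul_comm (x % p) p, Nat.mul_add_div hp, Nat.div_eq_of_lt (Nat.mod_lt y hp), add_zero, Nat.mul_add_mod,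
    Nat.mod_mod, h.cast_mod, h.cast_mod]

theorem Fld.ev_add (h : Fld σ p na nb θ) (a b : ℕ) : ev p θ (addc p a b) = ev p θ a + ev p θ b := by
  rw [addc, h.ev_mk, ev, ev]
  push_cast
  ring

theorem Fld.ev_mul (h : Fld σ p na nb θ) (a b : ℕ) : ev p θ (mulc p na nb a b) = ev p θ a * ev p θ b := by
  rw [mulc, h.ev_mk, ev, ev]
  push_cast
  linear_combination (-((a % p : ℕ) : F) * ((b % p : ℕ) : F)) * h.rel

theorem Fld.ev_cj (h : Fld σ p na nb θ) (a : ℕ) : ev p θ (cjc p na a) = σ (ev p θ a) := by
  have hp := h.hp.pos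
  have := h.ch
  rw [cjc, h.ev_mk, ev, map_add, map_mul, map_natCast, map_natCast, h.cj, Nat.cast_sub (Nat.mod_lt a hp).le,
    CharP.cast_eq_zero F p]
  push_cast
  ring

theorem ev_zero : ev p θ 0 = 0 := by simp [ev]

theorem Fld.ev_one (h : Fld σ p na nb θ) : ev p θ p = 1 := by
  rw [ev, Nat.div_self h.hp.pos, Nat.mod_self]
  simp

/-- independence of `1` and `θ` -/
theorem Fld.indep (h : Fld σ p na nb θ) {x y : ℕ} (hxy : (x : F) + y * θ = 0) : (x : F) = 0 ∧ (y : F) = 0 := by
  have h1 := congrArg σ hxy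
  rw [map_add, map_mul, map_natCast, map_natCast, map_zero] at h1
  have h2 : (y : F) * (σ θ - θ) = 0 := by linear_combination h1 - hxy
  have h3 : (y : F) = 0 := (mul_eq_zero.1 h2).resolve_right (sub_ne_zero.2 h.ne)
  refine ⟨?_, h3⟩
  rwa [h3, zero_mul, add_zero] at hxy

theorem Fld.ev_ne (h : Fld σ p na nb θ) {a : ℕ} (ha0 : a ≠ 0) (ha : a < p * p) : ev p θ a ≠ 0 := by
  have := h.ch
  intro h0
  obtain ⟨h1, h2⟩ := h.indep h0
  rw [CharP.cast_eq_zero_iff F p] at h1 h2
  have h3 : a / p < p := Nat.div_lt_of_lt_mul ha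
  have h4 : a / p = 0 := Nat.eq_zero_of_dvd_of_lt h1 h3
  have h5 : a % p = 0 := Nat.eq_zero_of_dvd_of_lt h2 (Nat.mod_lt a h.hp.pos)
  apply ha0
  rw [← Nat.div_add_mod a p, h4, h5, mul_zero, add_zero]

/-- the fixed elements of `σ` -/
theorem Fld.fix (h : Fld σ p na nb θ) {z : F} (hz : σ z = z) : ∃ x : ℕ, z = x := by
  obtain ⟨a, -, rfl⟩ := h.sur z
  rw [ev] at hz ⊢
  rw [map_add, map_mul, map_natCast, map_natCast] at hz
  have h2 : ((a % p : ℕ) : F) * (σ θ - θ) = 0 := by linear_combination hz
  have h3 : ((a % p : ℕ) : F) = 0 := (mul_eq_zero.1 h2).resolve_right (sub_ne_zero.2 h.ne)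
  exact ⟨a / p, by rw [h3, zero_mul, add_zero]⟩

end codes

/-! ### vectors -/

section vectors

variable (p na nb : ℕ) (θ : F)

/-- the vector with given coordinates -/
def lc : List ℕ → List V → V
  | a :: l, v :: vs => ev p θ a • v + lc l vs
  | _, _ => 0

def dotc : List ℕ → List ℕ → ℕ
  | a :: l, b :: m => addc p (mulc p na nb a b) (dotc l m)
  | _, _ => 0

/-- the form on coordinates -/
def fm (l m : List ℕ) : ℕ := dotc p na nb (l.map (cjc p na)) m

/-- `m + c l` -/
def axpy (c : ℕ) : List ℕ → List ℕ → List ℕ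
  | x :: l, y :: m => addc p y (mulc p na nb c x) :: axpy c l m
  | _, _ => []

/-- the action of a transvection -/
def act (t : List ℕ × ℕ) (m : List ℕ) : List ℕ := axpy p na nb (mulc p na nb t.2 (fm p na nb t.1 m)) t.1 m

def acts (ts : List (List ℕ × ℕ)) (m : List ℕ) : List ℕ := ts.foldr (fun t m => act p na nb t m) m

/-- orthonormal lists -/
def ON (B : V →ₛₗ[σ] V →ₗ[F] F) (vs : List V) : Prop := vs.Pairwise (fun x y => B x y = 0) ∧ ∀ v ∈ vs, B v v = 1

variable {p na nb θ}

theorem lc_nil_left (vs : List V) : lc p θ [] vs = 0 := by cases vs <;> rfl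

theorem lc_nil_right (l : List ℕ) : lc p θ l ([] : List V) = 0 := by cases l <;> rfl

theorem lc_mem (l : List ℕ) (vs : List V) : lc p θ l vs ∈ Submodule.span F {v | v ∈ vs} := by
  induction vs generalizing l with
  | nil => rw [lc_nil_right]; exact zero_mem _
  | cons v vs ih =>
    cases l with
    | nil => exact zero_mem _
    | cons a l =>
      refine add_mem (Submodule.smul_mem _ _ (Submodule.subset_span (by simp))) ?_
      exact Submodule.span_mono (fun x hx => List.mem_cons_of_mem _ hx) (ih l)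

theorem form_lc_right {x : V} {vs : List V} (h : ∀ v ∈ vs, B x v = 0) (l : List ℕ) : B x (lc p θ l vs) = 0 := by
  induction vs generalizing l with
  | nil => rw [lc_nil_right, map_zero]
  | cons v vs ih =>
    cases l with
    | nil => exact map_zero _
    | cons a l =>
      rw [lc, map_add, smul_right, h v (by simp), mul_zero, zero_add]
      exact ih (fun w hw => h w (List.mem_cons_of_mem _ hw)) l

theorem form_lc (h : Fld σ p na nb θ) (hB : HForm B) {vs : List V} (hvs : ON B vs) {l m : List ℕ}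
    (hl : l.length = vs.length) (hm : m.length = vs.length) :
    B (lc p θ l vs) (lc p θ m vs) = ev p θ (fm p na nb l m) := by
  induction vs generalizing l m with
  | nil =>
    rw [List.length_nil, List.length_eq_zero_iff] at hl
    subst hl
    rw [lc_nil_right, map_zero, LinearMap.zero_apply]
    exact ev_zero.symm
  | cons v vs ih =>
    obtain ⟨a, l, rfl⟩ := List.exists_cons_of_length_pos (l := l) (by rw [hl]; simp)
    obtain ⟨b, m, rfl⟩ := List.exists_cons_of_length_pos (l := m) (by rw [hm]; simp)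
    rw [List.length_cons, List.length_cons, Nat.add_right_cancel_iff] at hl hm
    obtain ⟨h1, h2⟩ := hvs
    rw [List.pairwise_cons] at h1
    have h3 := ih ⟨h1.2, fun w hw => h2 w (List.mem_cons_of_mem _ hw)⟩ hl hm
    have h4 : B v (lc p θ m vs) = 0 := form_lc_right h1.1 m
    have h5 : B (lc p θ l vs) v = 0 := hB.swap_zero (form_lc_right h1.1 l)
    rw [lc, lc, fm, List.map_cons, dotc, h.ev_add, h.ev_mul, h.ev_cj, ← fm, ← h3]
    simp only [map_add, LinearMap.add_apply, smul_left, smul_right, h4, h5, h2 v (by simp)]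
    ring

theorem lc_axpy (h : Fld σ p na nb θ) (c : ℕ) {vs : List V} {l m : List ℕ} (hl : l.length = vs.length)
    (hm : m.length = vs.length) :
    lc p θ (axpy p na nb c l m) vs = lc p θ m vs + ev p θ c • lc p θ l vs := by
  induction vs generalizing l m with
  | nil => rw [lc_nil_right, lc_nil_right, lc_nil_right, smul_zero, add_zero]
  | cons v vs ih =>
    obtain ⟨a, l, rfl⟩ := List.exists_cons_of_length_pos (l := l) (by rw [hl]; simp)
    obtain ⟨b, m, rfl⟩ := List.exists_cons_of_length_pos (l := m) (by rw [hm]; simp)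
    rw [List.length_cons, List.length_cons, Nat.add_right_cancel_iff] at hl hm
    rw [axpy, lc, lc, lc, ih hl hm, h.ev_add, h.ev_mul]
    module

theorem length_axpy (c : ℕ) {l m : List ℕ} (h : l.length = m.length) : (axpy p na nb c l m).length = m.length := by
  induction m generalizing l with
  | nil => cases l <;> rfl
  | cons b m ih =>
    obtain ⟨a, l, rfl⟩ := List.exists_cons_of_length_pos (l := l) (by rw [h]; simp)
    rw [List.length_cons, List.length_cons, Nat.add_right_cancel_iff] at h
    rw [axpy, List.length_cons, ih h, List.length_cons]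

theorem length_act {t : List ℕ × ℕ} {m : List ℕ} (h : t.1.length = m.length) :
    (act p na nb t m).length = m.length := length_axpy _ h

theorem length_acts {ts : List (List ℕ × ℕ)} {m : List ℕ} (h : ∀ t ∈ ts, t.1.length = m.length) :
    (acts p na nb ts m).length = m.length := by
  induction ts with
  | nil => rfl
  | cons t ts ih =>
    have h1 := ih fun t ht => h t (List.mem_cons_of_mem _ ht)
    change (act p na nb t (acts p na nb ts m)).length = _
    rw [length_act (by rw [h1]; exact h t (by simp)), h1]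

/-- the linear map of a word -/
def wd (B : V →ₛₗ[σ] V →ₗ[F] F) (p : ℕ) (θ : F) (vs : List V) (ts : List (List ℕ × ℕ)) (x : V) : V :=
  ts.foldr (fun t x => x + (ev p θ t.2 * B (lc p θ t.1 vs) x) • lc p θ t.1 vs) x

theorem wd_append (vs : List V) (ts ts' : List (List ℕ × ℕ)) (x : V) :
    wd B p θ vs (ts ++ ts') x = wd B p θ vs ts (wd B p θ vs ts' x) := by
  rw [wd, List.foldr_append]; rfl

theorem wd_lc (h : Fld σ p na nb θ) (hB : HForm B) {vs : List V} (hvs : ON B vs) {ts : List (List ℕ × ℕ)}
    (hts : ∀ t ∈ ts, t.1.length = vs.length) {m : List ℕ} (hm : m.length = vs.length) :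
    wd B p θ vs ts (lc p θ m vs) = lc p θ (acts p na nb ts m) vs := by
  induction ts with
  | nil => rfl
  | cons t ts ih =>
    have h1 : ∀ t ∈ ts, t.1.length = vs.length := fun t ht => hts t (List.mem_cons_of_mem _ ht)
    have h2 := ih h1
    have h3 : (acts p na nb ts m).length = vs.length := by
      rw [length_acts (fun t ht => by rw [h1 t ht, hm]), hm]
    change wd B p θ vs ts (lc p θ m vs) + (ev p θ t.2 * B (lc p θ t.1 vs) (wd B p θ vs ts (lc p θ m vs))) •
      lc p θ t.1 vs = lc p θ (act p na nb t (acts p na nb ts m)) vs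
    rw [h2, form_lc h hB hvs (hts t (by simp)) h3, act, lc_axpy h _ (hts t (by simp)) h3, h.ev_mul]

theorem wd_sub (vs : List V) (ts : List (List ℕ × ℕ)) (x : V) :
    wd B p θ vs ts x - x ∈ Submodule.span F {v | v ∈ vs} := by
  induction ts with
  | nil => change x - x ∈ _; rw [sub_self]; exact zero_mem _
  | cons t ts ih =>
    change wd B p θ vs ts x + (ev p θ t.2 * B (lc p θ t.1 vs) (wd B p θ vs ts x)) • lc p θ t.1 vs - x ∈ _
    rw [add_sub_right_comm]
    exact add_mem ih (Submodule.smul_mem _ _ (lc_mem _ _))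

/-- an orthonormal list: the coordinates -/
theorem ON.expand (hB : HForm B) {vs : List V} (hvs : ON B vs) {z : V}
    (hz : z ∈ Submodule.span F {v | v ∈ vs}) (h0 : ∀ v ∈ vs, B v z = 0) : z = 0 := by
  have h1 : ∀ w ∈ Submodule.span F {v | v ∈ vs}, (vs.map fun v => B v w • v).sum = w := by
    intro w hw
    induction hw using Submodule.span_induction with
    | mem w hw =>
      obtain ⟨h1, h2⟩ := hvs
      clear hz h0
      induction vs with
      | nil => simp at hw
      | cons v vs ih =>
        rw [List.pairwise_cons] at h1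
        rw [List.map_cons, List.sum_cons]
        rcases List.mem_cons.1 hw with rfl | hw'
        · rw [h2 w (by simp), one_smul]
          have h3 : (vs.map fun v => B v w • v) = vs.map fun _ => (0 : V) :=
            List.map_congr_left fun v hv => by rw [hB.swap_zero (h1.1 v hv), zero_smul]
          rw [h3]
          simp
        · rw [h1.1 w hw', zero_smul, zero_add]
          exact ih hw' h1.2 fun v hv => h2 v (List.mem_cons_of_mem _ hv)
    | zero => simp
    | add x y _ _ hx hy =>
      conv_rhs => rw [← hx, ← hy]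
      rw [← List.sum_map_add]
      congr 1
      refine List.map_congr_left fun v _ => ?_
      rw [map_add, add_smul]
    | smul c x _ hx =>
      conv_rhs => rw [← hx, List.smul_sum]
      congr 1
      rw [List.map_map]
      refine List.map_congr_left fun v _ => ?_
      rw [Function.comp_apply, smul_right, mul_smul]
  rw [← h1 z hz]
  have h2 : (vs.map fun v => B v z • v) = vs.map fun _ => (0 : V) :=
    List.map_congr_left fun v hv => by rw [h0 v hv, zero_smul]
  rw [h2]
  simp

/-- two elements given by words which agree on the span are equal -/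
theorem eq_of_words (hB : HForm B) {vs : List V} (hvs : ON B vs) {ts ts' : List (List ℕ × ℕ)} {k k' : SIso B}
    (hk : ∀ x, (k : V ≃ₗ[F] V) x = wd B p θ vs ts x) (hk' : ∀ x, (k' : V ≃ₗ[F] V) x = wd B p θ vs ts' x)
    (h : ∀ v ∈ vs, (k : V ≃ₗ[F] V) v = (k' : V ≃ₗ[F] V) v) : k = k' := by
  set W := Submodule.span F {v | v ∈ vs} with hW
  have h1 : ∀ w ∈ W, (k : V ≃ₗ[F] V) w = (k' : V ≃ₗ[F] V) w := by
    intro w hw
    induction hw using Submodule.span_induction with
    | mem w hw => exact h w hw
    | zero => rw [map_zero, map_zero]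
    | add x y _ _ hx hy => rw [map_add, map_add, hx, hy]
    | smul c x _ hx => rw [map_smul, map_smul, hx]
  apply ext'
  intro x
  rw [← sub_eq_zero]
  apply hvs.expand hB
  · have h2 := wd_sub (B := B) (p := p) (θ := θ) vs ts x
    have h3 := wd_sub (B := B) (p := p) (θ := θ) vs ts' x
    rw [← hk] at h2
    rw [← hk'] at h3
    have := sub_mem h2 h3
    rwa [sub_sub_sub_cancel_right] at this
  · intro v hv
    have h2 : ((k⁻¹ : SIso B) : V ≃ₗ[F] V) v ∈ W := by
      have h3 := wd_sub (B := B) (p := p) (θ := θ) vs ts (((k⁻¹ : SIso B) : V ≃ₗ[F] V) v)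
      rw [← hk, coe_apply_inv] at h3
      have h4 := sub_mem (Submodule.subset_span (s := {v | v ∈ vs}) (R := F) hv) h3
      rwa [sub_sub_cancel] at h4
    have h5 : v = (k : V ≃ₗ[F] V) (((k⁻¹ : SIso B) : V ≃ₗ[F] V) v) := (coe_apply_inv k v).symm
    have h6 := h1 _ h2
    rw [map_sub]
    conv_lhs => rw [h5]
    rw [isom_coe]
    conv_lhs => rw [h6]
    rw [isom_coe, sub_self]

/-! ### unit vectors, enumeration -/

/-- the coordinates of the basis vectors -/
def units (p : ℕ) : ℕ → List (List ℕ)
  | 0 => []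
  | d + 1 => (p :: List.replicate d 0) :: (units p d).map (0 :: ·)

theorem lc_replicate (d : ℕ) (vs : List V) : lc p θ (List.replicate d 0) vs = 0 := by
  induction vs generalizing d with
  | nil => exact lc_nil_right _
  | cons v vs ih =>
    cases d with
    | zero => rfl
    | succ d => rw [List.replicate_succ, lc, ev_zero, zero_smul, zero_add, ih]

theorem exists_unit (h : Fld σ p na nb θ) {vs : List V} {v : V} (hv : v ∈ vs) :
    ∃ e ∈ units p vs.length, e.length = vs.length ∧ lc p θ e vs = v := by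
  induction vs with
  | nil => simp at hv
  | cons w vs ih =>
    rcases List.mem_cons.1 hv with rfl | hv
    · refine ⟨p :: List.replicate vs.length 0, by simp [units], by simp, ?_⟩
      rw [lc, h.ev_one, one_smul, lc_replicate, add_zero]
    · obtain ⟨e, he, hel, hev⟩ := ih hv
      refine ⟨0 :: e, ?_, by simp [hel], ?_⟩
      · rw [List.length_cons, units]
        exact List.mem_cons_of_mem _ (List.mem_map.2 ⟨e, he, rfl⟩)
      · rw [lc, ev_zero, zero_smul, zero_add, hev]

/-- all coordinate vectors -/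
def allv (p : ℕ) : ℕ → List (List ℕ)
  | 0 => [[]]
  | d + 1 => (List.range (p * p)).flatMap fun a => (allv p d).map (a :: ·)

/-- normalised coordinate vectors -/
def nrm (p : ℕ) : ℕ → List (List ℕ)
  | 0 => []
  | d + 1 => (allv p d).map (p :: ·) ++ (nrm p d).map (0 :: ·)

theorem length_allv {p d : ℕ} {m : List ℕ} (hm : m ∈ allv p d) : m.length = d := by
  induction d generalizing m with
  | zero => rw [allv, List.mem_singleton] at hm; rw [hm]; rfl
  | succ d ih =>
    rw [allv, List.mem_flatMap] at hm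
    obtain ⟨a, -, hm⟩ := hm
    obtain ⟨l, hl, rfl⟩ := List.mem_map.1 hm
    rw [List.length_cons, ih hl]

theorem length_nrm {p d : ℕ} {m : List ℕ} (hm : m ∈ nrm p d) : m.length = d := by
  induction d generalizing m with
  | zero => simp [nrm] at hm
  | succ d ih =>
    rw [nrm, List.mem_append] at hm
    rcases hm with hm | hm
    · obtain ⟨l, hl, rfl⟩ := List.mem_map.1 hm
      rw [List.length_cons, length_allv hl]
    · obtain ⟨l, hl, rfl⟩ := List.mem_map.1 hm
      rw [List.length_cons, ih hl]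

theorem exists_all (h : Fld σ p na nb θ) {vs : List V} {u : V} (hu : u ∈ Submodule.span F {v | v ∈ vs}) :
    ∃ m ∈ allv p vs.length, lc p θ m vs = u := by
  induction vs generalizing u with
  | nil =>
    have h1 : {v : V | v ∈ ([] : List V)} = ∅ := by ext; simp
    rw [h1, Submodule.span_empty, Submodule.mem_bot] at hu
    exact ⟨[], by simp [allv], by rw [hu]; rfl⟩
  | cons v vs ih =>
    have h1 : {w | w ∈ v :: vs} = insert v {w | w ∈ vs} := by ext w; simp
    rw [h1, Submodule.mem_span_insert] at hu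
    obtain ⟨c, z, hz, rfl⟩ := hu
    obtain ⟨m, hm, rfl⟩ := ih hz
    obtain ⟨a, ha, rfl⟩ := h.sur c
    refine ⟨a :: m, ?_, rfl⟩
    rw [List.length_cons, allv, List.mem_flatMap]
    exact ⟨a, List.mem_range.2 ha, List.mem_map.2 ⟨m, hm, rfl⟩⟩

theorem exists_nrm (h : Fld σ p na nb θ) {vs : List V} {u : V} (hu : u ∈ Submodule.span F {v | v ∈ vs})
    (hu0 : u ≠ 0) : ∃ m ∈ nrm p vs.length, ∃ c : F, c ≠ 0 ∧ u = c • lc p θ m vs := by
  induction vs generalizing u with
  | nil =>
    have h1 : {v : V | v ∈ ([] : List V)} = ∅ := by ext; simp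
    rw [h1, Submodule.span_empty, Submodule.mem_bot] at hu
    exact absurd hu hu0
  | cons v vs ih =>
    have h1 : {w | w ∈ v :: vs} = insert v {w | w ∈ vs} := by ext w; simp
    rw [h1, Submodule.mem_span_insert] at hu
    obtain ⟨c, z, hz, rfl⟩ := hu
    by_cases hc : c = 0
    · subst hc
      rw [zero_smul, zero_add] at hu0 ⊢
      obtain ⟨m, hm, c, hc, hzc⟩ := ih hz hu0
      refine ⟨0 :: m, ?_, c, hc, ?_⟩
      · rw [List.length_cons, nrm, List.mem_append]
        exact Or.inr (List.mem_map.2 ⟨m, hm, rfl⟩)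
      · rw [lc, ev_zero, zero_smul, zero_add, hzc]
    · obtain ⟨m, hm, hmz⟩ := exists_all h (Submodule.smul_mem _ c⁻¹ hz)
      refine ⟨p :: m, ?_, c, hc, ?_⟩
      · rw [List.length_cons, nrm, List.mem_append]
        exact Or.inl (List.mem_map.2 ⟨m, hm, rfl⟩)
      · rw [lc, h.ev_one, one_smul, hmz, smul_add, smul_smul, mul_inv_cancel₀ hc, one_smul]

/-! ### the orbit -/

/-- the tree of images: an entry `(i, g, s)` adds `s` times the image of the `i`-th last point under the generator `g` -/
def run (p na nb : ℕ) (gens : List (List (List ℕ × ℕ))) : List (List ℕ) → List (ℕ × ℕ × ℕ) → List (List ℕ)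
  | L, [] => L
  | L, (i, g, s) :: r =>
    match L[i]?, gens[g]? with
    | some x, some ts => run p na nb gens (((acts p na nb ts x).map (mulc p na nb s)) :: L) r
    | _, _ => run p na nb gens L r

theorem lc_map (h : Fld σ p na nb θ) (s : ℕ) (l : List ℕ) (vs : List V) :
    lc p θ (l.map (mulc p na nb s)) vs = ev p θ s • lc p θ l vs := by
  induction vs generalizing l with
  | nil => rw [lc_nil_right, lc_nil_right, smul_zero]
  | cons v vs ih =>
    cases l with
    | nil => exact (smul_zero _).symm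
    | cons a l => rw [List.map_cons, lc, lc, ih, h.ev_mul, smul_add, mul_smul]

theorem run_sound (h : Fld σ p na nb θ) (hB : HForm B) {vs : List V} (hvs : ON B vs) {J : Subgroup (SIso B)}
    {gens : List (List (List ℕ × ℕ))}
    (hg : ∀ ts ∈ gens, (∀ t ∈ ts, t.1.length = vs.length) ∧
      ∃ w ∈ J, ∀ x, (w : V ≃ₗ[F] V) x = wd B p θ vs ts x)
    {L : List (List ℕ)} (hL : ∀ l ∈ L, l.length = vs.length ∧ X B (lc p θ l vs) ≤ J) (r : List (ℕ × ℕ × ℕ)) :
    ∀ l ∈ run p na nb gens L r, l.length = vs.length ∧ X B (lc p θ l vs) ≤ J := by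
  induction r generalizing L with
  | nil => exact hL
  | cons e r ih =>
    obtain ⟨i, g, s⟩ := e
    rw [run]
    split
    · rename_i x ts hx hts
      apply ih
      intro l hl
      rcases List.mem_cons.1 hl with rfl | hl
      · obtain ⟨h1, h2⟩ := hL x (List.mem_of_getElem? hx)
        obtain ⟨h3, w, hw, hwx⟩ := hg ts (List.mem_of_getElem? hts)
        refine ⟨by rw [List.length_map, length_acts (fun t ht => by rw [h3 t ht, h1]), h1], ?_⟩
        rw [lc_map h, ← wd_lc h hB hvs h3 h1, ← hwx]
        refine (X_smul_le _ _).trans ?_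
        rw [← cj_X]
        rintro _ ⟨y, hy, rfl⟩
        change MulAut.conj w y ∈ J
        rw [MulAut.conj_apply]
        exact mul_mem (mul_mem hw (h2 hy)) (inv_mem hw)
      · exact hL l hl
    · exact ih hL

/-- the check -/
def check (p na nb d : ℕ) (gens : List (List (List ℕ × ℕ))) (word : List (List ℕ × ℕ)) (p₀ : List ℕ) (c₀ : ℕ)
    (r : List (ℕ × ℕ × ℕ)) : Bool :=
  (gens.all fun ts => ts.all fun t => t.1.length == d) && (word.all fun t => t.1.length == d) && (p₀.length == d) &&
  (fm p na nb p₀ p₀ == 0) && (addc p c₀ (cjc p na c₀) == 0) && (c₀ != 0) && decide (c₀ < p * p) &&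
  ((units p d).all fun e => acts p na nb word e == act p na nb (p₀, c₀) e) &&
  (let L := run p na nb gens [p₀] r
   (nrm p d).all fun m => (let f := fm p na nb m m; f != 0 && decide (f < p * p)) || L.contains m)

/-- a product of generators -/
theorem word_mem {vs : List V} {J : Subgroup (SIso B)} {gens : List (List (List ℕ × ℕ))}
    (hg : ∀ ts ∈ gens, ∃ w ∈ J, ∀ x, (w : V ≃ₗ[F] V) x = wd B p θ vs ts x) (is : List ℕ) :
    ∃ w ∈ J, ∀ x, (w : V ≃ₗ[F] V) x = wd B p θ vs (is.flatMap fun i => gens.getD i []) x := by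
  induction is with
  | nil => exact ⟨1, one_mem _, fun x => rfl⟩
  | cons i is ih =>
    obtain ⟨w, hw, hwx⟩ := ih
    have h1 : ∃ w ∈ J, ∀ x, (w : V ≃ₗ[F] V) x = wd B p θ vs (gens.getD i []) x := by
      rw [List.getD_eq_getElem?_getD]
      cases h2 : gens[i]? with
      | none => exact ⟨1, one_mem _, fun x => rfl⟩
      | some ts => exact hg ts (List.mem_of_getElem? h2)
    obtain ⟨w', hw', hwx'⟩ := h1
    refine ⟨w' * w, mul_mem hw' hw, fun x => ?_⟩
    rw [List.flatMap_cons, wd_append, Subgroup.coe_mul, LinearEquiv.mul_apply, hwx', hwx]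

/-- **the engine** -/
theorem eng [FiniteDimensional F V] (h : Fld σ p na nb θ) (hB : HForm B) {vs : List V} (hvs : ON B vs)
    {J : Subgroup (SIso B)} (gens : List (List (List ℕ × ℕ)))
    (hg : ∀ ts ∈ gens, ∃ w ∈ J, ∀ x, (w : V ≃ₗ[F] V) x = wd B p θ vs ts x) (is : List ℕ) (p₀ : List ℕ) (c₀ : ℕ)
    (r : List (ℕ × ℕ × ℕ))
    (hc : check p na nb vs.length gens (is.flatMap fun i => gens.getD i []) p₀ c₀ r = true) :
    ∀ u ∈ Submodule.span F {v | v ∈ vs}, B u u = 0 → X B u ≤ J := by
  unfold check at hc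
  simp only [Bool.and_eq_true, List.all_eq_true, beq_iff_eq, bne_iff_ne, decide_eq_true_eq, Bool.or_eq_true,
    List.contains_iff_mem] at hc
  obtain ⟨⟨⟨⟨⟨⟨⟨⟨h1, h2⟩, h3⟩, h4⟩, h5⟩, h6⟩, h7⟩, h8⟩, h9⟩ := hc
  have hg' : ∀ ts ∈ gens, (∀ t ∈ ts, t.1.length = vs.length) ∧ ∃ w ∈ J, ∀ x, (w : V ≃ₗ[F] V) x = wd B p θ vs ts x :=
    fun ts hts => ⟨h1 ts hts, hg ts hts⟩
  -- the base point
  have hu0 : B (lc p θ p₀ vs) (lc p θ p₀ vs) = 0 := by rw [form_lc h hB hvs h3 h3, h4, ev_zero]
  have hc0 : ev p θ c₀ + σ (ev p θ c₀) = 0 := by rw [← h.ev_cj, ← h.ev_add, h5, ev_zero]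
  have hc1 : ev p θ c₀ ≠ 0 := h.ev_ne h6 h7
  obtain ⟨w, hw, hwx⟩ := word_mem hg is
  have hwt : w = tv hB (lc p θ p₀ vs) hu0 (ev p θ c₀) hc0 := by
    refine eq_of_words hB hvs (ts' := [(p₀, c₀)]) hwx (fun x => tv_apply hB _ hu0 _ hc0 x) fun v hv => ?_
    obtain ⟨e, he, hel, rfl⟩ := exists_unit h hv
    rw [hwx, wd_lc h hB hvs h2 hel, h8 e he, tv_apply, form_lc h hB hvs h3 hel, act, lc_axpy h _ h3 hel, h.ev_mul]
  have hbase : X B (lc p θ p₀ vs) ≤ J := by
    intro k hk
    obtain ⟨c, hc, rfl⟩ := (mem_X_iff hB hu0).1 hk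
    obtain ⟨m, hm⟩ := h.fix (z := c * (ev p θ c₀)⁻¹) (by
      have h10 : σ c = -c := by linear_combination hc
      have h11 : σ (ev p θ c₀) = -ev p θ c₀ := by linear_combination hc0
      rw [map_mul, map_inv₀, h10, h11, inv_neg]
      ring)
    have hcm : c = m * ev p θ c₀ := by rw [← hm, mul_assoc, inv_mul_cancel₀ hc1, mul_one]
    have h12 : ∀ j : ℕ, ∀ x, ((w ^ j : SIso B) : V ≃ₗ[F] V) x =
        x + (((j : F) * ev p θ c₀) * B (lc p θ p₀ vs) x) • lc p θ p₀ vs := by
      intro j
      induction j with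
      | zero => intro x; simp
      | succ j ih =>
        intro x
        rw [pow_succ', Subgroup.coe_mul, LinearEquiv.mul_apply, ih, hwt, tv_apply, map_add, map_smul, hu0]
        push_cast
        module
    have h13 : tv hB (lc p θ p₀ vs) hu0 c hc = w ^ m := ext' fun x => by rw [h12, tv_apply, hcm]
    rw [h13]
    exact pow_mem hw m
  have hrun := run_sound h hB hvs hg' (L := [p₀]) (fun l hl => by
    rw [List.mem_singleton] at hl
    rw [hl]
    exact ⟨h3, hbase⟩) r
  intro u hu huu
  by_cases hu00 : u = 0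
  · subst hu00
    rintro k ⟨c, hk⟩
    have : k = 1 := ext' fun x => by rw [hk, smul_zero, add_zero]; rfl
    rw [this]
    exact one_mem _
  obtain ⟨m, hm, c, hc, rfl⟩ := exists_nrm h hu hu00
  rw [X_smul _ hc]
  have hml := length_nrm hm
  rcases h9 m hm with h10 | h10
  · exfalso
    apply h.ev_ne h10.1 h10.2
    rw [← form_lc h hB hvs hml hml]
    rw [smul_left, smul_right] at huu
    exact ((mul_eq_zero.1 ((mul_eq_zero.1 huu).resolve_left (sig_ne_zero hc))).resolve_left hc)
  · exact (hrun m h10).2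

end vectors

end Cfsg.Agent.H937.Gs
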